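import Cfsg.Agent.ODD.QB.SL
import Cfsg.Agent.ODD.QB.Node
import Cfsg.Agent.ODD.FA.SU
import Cfsg.Agent.H61.LastEven
import Cfsg.Agent.Nodes.ClsWitt
import Cfsg.Agent.H694.Diag
import Cfsg.Agent.H311.K547.Val
import Cfsg.Agent.S0278

/-!
# ODD, box QB: the groups `SU_n(q)` (helper9)

* `nd_last`: the long root subgroup `SL₂(q)` of the last node of a unitary Witt frame;
* `qb_uf`, `qb_su`, **`boxB_psu : RowB PsuO`**.
-/

set_option autoImplicit false
set_option linter.unusedSectionVars false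

namespace Cfsg.Agent.ODD.QB

open Cfsg Matrix CoxeterSystem Cfsg.Agent.ChevalleyStructure.CoxeterGeom Cfsg.Agent.Tits.Roots Cfsg.Agent.Nodes.Reps
  Cfsg.Agent.Nodes.BNOf Cfsg.Agent.Nodes.Bruhat Cfsg.Agent.KFacts.RgdDiag Cfsg.Agent.H310.OQ Cfsg.Agent.ODD.FA
  Cfsg.Agent.Nodes
open Cfsg.Agent.TitsThree.Siegel Cfsg.Agent.TitsThree.WittFrame Cfsg.Agent.TitsThree.WittWeyl
  Cfsg.Agent.TitsThree.FrameCN Cfsg.Agent.LieClassical.HermBasic
open Cfsg.Agent.Nodes.WittRoot (Mono rg rg_eq PG_self PG_ne)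
open Cfsg.Agent.Nodes.WittRGD (nn mono_nn rg_sr not_prop)
open Cfsg.Agent.Nodes.TypeC (ng sg nx wt ee isCartan)
open Cfsg.Agent.H428.OQ (rho rho_inj)
open Cfsg.Agent.H61.LastEven (Rel)
open Cfsg.Agent.Phan (fixedField card_fixedField)
open Cfsg.Agent.H311.K547 (E2 gf gf_cast gf_ne e2_pow e2_pow_odd odd_int)

theorem e2_su {q : ℕ} (hq : 2 ≤ q) (ho : Odd q) (m : ℕ) :
    E2 (∏ i ∈ Finset.range (2 * m), gf q i) ((q ^ 2 - 1) ^ m * (q + 1) ^ m * m.factorial) ∧
    E2 (∏ i ∈ Finset.range (2 * m + 1), gf q i) ((q + 1) * ((q ^ 2 - 1) ^ m * (q + 1) ^ m * m.factorial)) := by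
  have hq1 : 1 < q ^ 2 := Nat.one_lt_pow two_ne_zero hq
  obtain ⟨c, hc⟩ := id ho
  have he : ∀ j, E2 (gf q (2 * j)) (q + 1) := fun j =>
    e2_pow_odd (x := q) (y := -1) ⟨c + 1, by rw [hc]; push_cast; ring⟩ (odd_int ho) (k := 2 * j + 1) ⟨j, rfl⟩
      (gf_cast (by omega) (2 * j)) (by push_cast; ring) (gf_ne hq _) (by omega)
  have h1 : ∀ j, E2 (gf q (2 * j + 1)) ((q ^ 2 - 1) * (j + 1)) := fun j => by
    refine e2_pow (x := (q : ℤ) ^ 2) (y := 1) ⟨c * (c + 1), by rw [hc]; push_cast; ring⟩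
      (fun h => odd_int ho (Int.prime_two.dvd_of_dvd_pow h)) (j + 1) ?_ ?_ (gf_ne hq _)
      (Nat.mul_ne_zero (by omega) (by omega))
    · rw [gf_cast (by omega), one_pow, ← pow_mul, show 2 * (j + 1) = 2 * j + 1 + 1 by ring,
        (show Even (2 * j + 1 + 1) from ⟨j + 1, by ring⟩).neg_one_pow]
    · rw [Nat.cast_mul, Nat.cast_sub hq1.le]
      push_cast
      ring
  have h2 : E2 (∏ i ∈ Finset.range (2 * m), gf q i) ((q ^ 2 - 1) ^ m * (q + 1) ^ m * m.factorial) := by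
    induction m with
    | zero => simpa using E2.refl 1
    | succ m ih =>
      rw [show 2 * (m + 1) = 2 * m + 1 + 1 by ring, Finset.prod_range_succ, Finset.prod_range_succ,
        show (q ^ 2 - 1) ^ (m + 1) * (q + 1) ^ (m + 1) * (m + 1).factorial =
          (q ^ 2 - 1) ^ m * (q + 1) ^ m * m.factorial * (q + 1) * ((q ^ 2 - 1) * (m + 1)) by
          rw [Nat.factorial_succ]; ring]
      exact (ih.mul (he m)).mul (h1 m)
  exact ⟨h2, by rw [Finset.prod_range_succ, mul_comm (q + 1)]; exact h2.mul (he m)⟩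

theorem dvd_of_e2 {a b c j : ℕ} (hc : c ≠ 0) (h : E2 (c * a) (c * b)) (hj : 2 ^ j ∣ a) : 2 ^ j ∣ b := by
  obtain ⟨u, v, -, hv, e⟩ := h
  rw [mul_assoc, mul_assoc] at e
  exact (Nat.Coprime.pow_left j (Nat.coprime_two_left.2 hv)).dvd_of_dvd_mul_right
    (Nat.eq_of_mul_eq_mul_left (Nat.pos_of_ne_zero hc) e ▸ hj.mul_right u)

section uf

variable {F : Type} [Field F] [Fintype F] {V : Type} [AddCommGroup V] [Module F V] {H : HForm F V} {k : ℕ}
  {Fr : Frame H (Fin (k + 1))} {Y : Type} [Group Y] [Finite Y] {M : Model Fr Y} {L : Y →* (V ≃ₗ[F] V)} {q : ℕ}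
  {Δ : Subgroup Fˣ} {p0 : Fr.Adm} (D : UF M L q Δ p0) (hε : H.ε = 1)

/-- `y` acts on the last hyperbolic plane as the matrix `A` -/
abbrev Rl (y : Y) (A : SpecialLinearGroup (Fin 2) (fixedField D.card)) : Prop :=
  Rel (fun v => ∃ z : Fin (k + 1) × Bool, z.1 ≠ Fin.last k ∧ v = Fr.b z) (p0.c • Fr.b (Fin.last k, true))
    (Fr.b (Fin.last k, false)) (L y) A

theorem rl_unique {y y' : Y} {A : SpecialLinearGroup (Fin 2) (fixedField D.card)} (h1 : Rl D y A) (h2 : Rl D y' A) :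
    y = y' := by
  have h3 := Rel.mul h1.inv h2
  rw [← map_inv, ← map_mul, inv_mul_cancel] at h3
  refine inv_mul_eq_one.1 (D.inj ((D.fix _ (D.mem _) fun z => ?_).trans (map_one L).symm))
  by_cases hz : z.1 = Fin.last k
  · obtain ⟨_, _ | _⟩ := z <;> obtain rfl := hz
    · simpa using h3.snd
    · exact smul_right_injective V D.c0 (by simpa using h3.fst)
  · exact h3.fix _ ⟨z, hz, rfl⟩

theorem Rl.mul {y y' : Y} {A A' : SpecialLinearGroup (Fin 2) (fixedField D.card)} (h1 : Rl D y A) (h2 : Rl D y' A') :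
    Rl D (y * y') (A * A') := by
  rw [Rl, map_mul]
  exact Rel.mul h1 h2

include D in
theorem mem_long {x : Fin (k + 1) → ℤ} {z : Fin (k + 1) × Bool} (e : ee x = wt z + wt z) {g : Y} :
    g ∈ WittModel.X M x ↔ ∃ r, g = rho M z r := by
  refine D.mem_map.trans ?_
  rw [rg_eq Fr (Or.inr rfl) e, PG_self]
  exact exists_congr fun r => ⟨fun e => D.inj (e.trans (D.eq ⟨_, M.hZ z r⟩).symm), fun e => e ▸ D.eq _⟩

include D hε

theorem c_pow {r : Fr.Adm} (hr : r.w = 0) : r.c ^ q = -r.c := by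
  have h1 := r.herm
  rw [hε, one_mul, D.σ, hr, H.zero_left, _root_.neg_zero] at h1
  exact eq_neg_of_add_eq_zero_right h1

theorem mem_zc_long {x : Fin (k + 1) → ℤ} {z : Fin (k + 1) × Bool} (e : ee x = wt z + wt z) {g : Y} :
    g ∈ zc (WittModel.X M x) ↔ ∃ r : Fr.Adm, r.w = 0 ∧ g = rho M z r := by
  rw [mem_zc, mem_long D e]
  constructor
  · rintro ⟨⟨r, rfl⟩, h1⟩
    have h2 := h1 _ ((mem_long D e).2 ⟨Frame.Adm.smul p0.c r, rfl⟩)
    rw [← map_mul, ← map_mul] at h2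
    have h3 := congrArg Frame.Adm.c (rho_inj M z h2)
    simp only [Frame.Adm.mul_c, Frame.Adm.smul_w, H.smul_left, H.smul_right, hε, inv_one, one_mul, D.σ,
      c_pow D hε D.w0] at h3
    have h4 : 2 * p0.c * H.h r.w r.w = 0 := by linear_combination h3
    exact ⟨r, D.amb.aniso _ (Fr.ok_mem r.ok) ((mul_eq_zero.1 h4).resolve_left
      (mul_ne_zero (Ring.two_ne_zero (two_ne_of_odd (D.card ▸ D.odd.pow))) D.c0)), rfl⟩
  · rintro ⟨r, hr, rfl⟩
    refine ⟨⟨r, rfl⟩, fun y hy => ?_⟩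
    obtain ⟨s, rfl⟩ := (mem_long D e).1 hy
    rw [← map_mul, ← map_mul]
    congr 1
    ext
    · simp only [Frame.Adm.mul_w, add_comm]
    · simp only [Frame.Adm.mul_c, hr, H.zero_left, H.zero_right]
      ring

omit hε in
theorem exists_adm (t : fixedField D.card) : ∃ r : Fr.Adm, r.w = 0 ∧ r.c = t * p0.c := by
  obtain ⟨x, hx⟩ := exists_norm_eq D.card t.2
  exact ⟨Frame.Adm.smul x p0, by rw [Frame.Adm.smul_w, D.w0, smul_zero], by rw [Frame.Adm.smul_c, D.σ, hx]⟩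

theorem rl_up {r : Fr.Adm} (hw : r.w = 0) {t : fixedField D.card} (hc : r.c = t * p0.c) :
    Rl D (rho M (Fin.last k, true) r) (uu t) := by
  have e : L (rho M (Fin.last k, true) r) = Fr.Z (Fin.last k, true) r := D.eq _
  refine ⟨?_, ?_, ?_⟩ <;> rw [e]
  · rw [map_smul, Z_apply_of_ne Fr (by simp [TitsThree.WittFrame.neg])]
    simp [uu]
  · refine (Z_apply_neg Fr (Fin.last k, true) r).trans ?_
    simp [uu, hw, hc, Frame.η, hε, smul_smul, add_comm, TitsThree.WittFrame.neg]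
  · rintro _ ⟨z, hz, rfl⟩
    exact Z_apply_of_ne Fr (fun h => hz (congrArg Prod.fst h)) r

omit hε in
theorem rl_lo {r : Fr.Adm} (hw : r.w = 0) {t : fixedField D.card} (hc : p0.c * r.c = t) :
    Rl D (rho M (Fin.last k, false) r) (ll t) := by
  have e : L (rho M (Fin.last k, false) r) = Fr.Z (Fin.last k, false) r := D.eq _
  refine ⟨?_, ?_, ?_⟩ <;> rw [e]
  · rw [map_smul, show Fr.Z _ r (Fr.b (Fin.last k, true)) = _ from Z_apply_neg Fr (Fin.last k, false) r]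
    simp [ll, hw, ← hc, Frame.η, smul_smul, TitsThree.WittFrame.neg]
  · rw [Z_apply_of_ne Fr (by simp [TitsThree.WittFrame.neg])]
    simp [ll]
  · rintro _ ⟨z, hz, rfl⟩
    exact Z_apply_of_ne Fr (fun h => hz (congrArg Prod.fst h)) r

theorem exists_phi : ∃ Φ : SpecialLinearGroup (Fin 2) (fixedField D.card) →* Y, ∀ A, Rl D (Φ A) A := by
  let S : Subgroup (SpecialLinearGroup (Fin 2) (fixedField D.card)) :=
    { carrier := {A | ∃ y, Rl D y A}
      one_mem' := ⟨1, by rw [Rl, map_one]; exact Rel.one⟩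
      mul_mem' := fun ⟨y, h⟩ ⟨y', h'⟩ => ⟨y * y', Rl.mul D h h'⟩
      inv_mem' := fun ⟨y, h⟩ => ⟨y⁻¹, by rw [Rl, map_inv]; exact h.inv⟩ }
  have hS : S = ⊤ := eq_top_of_uu_ll S (fun t => by
    obtain ⟨r, h1, h2⟩ := exists_adm D t
    exact ⟨_, rl_up D hε h1 h2⟩) fun t => by
    obtain ⟨r, h1, h2⟩ := exists_adm D (t * ⟨p0.c⁻¹ * p0.c⁻¹, by
      show (p0.c⁻¹ * p0.c⁻¹) ^ q = _
      rw [mul_pow, inv_pow, c_pow D hε D.w0, inv_neg, neg_mul_neg]⟩)
    refine ⟨_, rl_lo D h1 ?_⟩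
    have := D.c0
    rw [h2]
    push_cast
    field_simp
  choose f hf using fun A => (hS ▸ Subgroup.mem_top A : A ∈ S)
  exact ⟨MonoidHom.mk' f fun A B => rl_unique D (hf _) (Rl.mul D (hf A) (hf B)), hf⟩

variable {W : Type} [Group W] [Finite W] {cs : CoxeterSystem (CoxeterMatrix.B (k + 1)) W} {p : ℕ} {nw : Fin (k + 1) → Y}
  (hn : ∀ i, L (nw i) = nn Fr p0 i) (R : RGD cs (isCartan (k + 1)) p (WittModel.T M) nw (WittModel.X M))

omit D hε in
theorem ee_last : ee (sr (Fin.last k)) = wt (Fin.last k, true) + wt (Fin.last k, true) := by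
  rw [TypeC.ee_sr, TypeC.bt, nx_last]

include hn

/-- **the last node** -/
theorem nd_last : ∃ Φ : SpecialLinearGroup (Fin 2) (fixedField D.card) →* Y, Nd R (sr (Fin.last k)) Φ := by
  obtain ⟨Φ, hΦ⟩ := exists_phi D hε
  have h0 := D.c0
  have hf : ∀ A z, z.1 ≠ Fin.last k → L (Φ A) (Fr.b z) = Fr.b z := fun A z hz => (hΦ A).fix _ ⟨z, hz, rfl⟩
  have hw1 : L (Φ ww) (Fr.b (Fin.last k, true)) = -p0.c⁻¹ • Fr.b (Fin.last k, false) :=
    smul_right_injective V h0 (by simpa [ww, smul_smul, h0] using (hΦ ww).fst)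
  have hw2 : L (Φ ww) (Fr.b (Fin.last k, false)) = p0.c • Fr.b (Fin.last k, true) := by simpa [ww] using (hΦ ww).snd
  have hd1 : ∀ c, L (Φ (dd c)) (Fr.b (Fin.last k, true)) = ((c : fixedField D.card) : F) • Fr.b (Fin.last k, true) :=
    fun c => smul_right_injective V h0 (by simpa [dd_val, smul_comm p0.c] using (hΦ (dd c)).fst)
  have hT : ∀ c, Φ (dd c) ∈ WittModel.T M := fun c => D.mem_T.2 fun z => by
    by_cases hz : z.1 = Fin.last k
    · obtain ⟨_, _ | _⟩ := z <;> obtain rfl := hz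
      · exact ⟨((c⁻¹ : (fixedField D.card)ˣ) : fixedField D.card), by simp, by simpa [dd_val] using (hΦ (dd c)).snd⟩
      · exact ⟨_, by simp, hd1 c⟩
    · exact ⟨1, one_ne_zero, by rw [hf _ z hz, one_smul, id]⟩
  have hm : Mono Fr (L (Φ ww)) (sg (Fin.last k)) := fun z => by
    by_cases hz : z.1 = Fin.last k
    · obtain ⟨_, _ | _⟩ := z <;> obtain rfl := hz <;> rw [TypeC.sg_last not_lt_last]
      · exact ⟨_, h0, hw2⟩
      · exact ⟨_, neg_ne_zero.2 (inv_ne_zero h0), hw1⟩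
    · exact ⟨1, one_ne_zero, by rw [hf _ z hz, one_smul, TypeC.sg_of_ne hz (by simp; omega)]⟩
  have hr : Rp cs R.nsys (cs.simple (Fin.last k)) (Φ ww) := by
    have h1 := (rp_simple cs R.nsys (Fin.last k)).mul_mem_right (t := (nw (Fin.last k))⁻¹ * Φ ww) (D.mem_T.2 (by
      rw [map_mul, map_inv, hn]
      exact (((mono_nn h0 _).inv (TypeC.sg_sg _)).mul hm).congr (TypeC.sg_sg _)))
    rwa [mul_inv_cancel_left] at h1
  refine ⟨Φ, isRoot_sr cs _ _, fun g => (mem_zc_long D hε ee_last).trans ⟨?_, ?_⟩, ⟨_, hr, rep_simple_sr cs _ _⟩, hT,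
    fun c => ?_⟩
  · rintro ⟨r, h1, rfl⟩
    refine ⟨⟨r.c * p0.c⁻¹, ?_⟩, rl_unique D (rl_up D hε h1 (inv_mul_cancel_right₀ h0 _).symm) (hΦ _)⟩
    show (r.c * p0.c⁻¹) ^ q = _
    rw [mul_pow, inv_pow, c_pow D hε D.w0, c_pow D hε h1, inv_neg, neg_mul_neg]
  · rintro ⟨t, rfl⟩
    obtain ⟨r, h1, h2⟩ := exists_adm D t
    exact ⟨r, h1, rl_unique D (hΦ _) (rl_up D hε h1 h2)⟩
  · obtain ⟨x, hx0, hx⟩ := exists_norm_eq_ne D.card ((c⁻¹ : (fixedField D.card)ˣ) : fixedField D.card).2 (by simp)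
    obtain ⟨s, hs, h3⟩ : ∃ s ∈ WittModel.T M, L s (Fr.b (Fin.last k, true)) = x • Fr.b (Fin.last k, true) := by
      rcases D.alt with ⟨h, -⟩ | ⟨h, -⟩
      · obtain ⟨s, hs, e⟩ := D.exists_last (δ := Units.mk0 x hx0) (h ▸ Subgroup.mem_top _)
        exact ⟨s, hs, by simpa using e (Fin.last k)⟩
      · have h0 : Fin.last k ≠ 0 := by simpa using h
        obtain ⟨s, hs, e⟩ := D.exists_two h0 (Units.mk0 x hx0)
        exact ⟨s, hs, by simpa [h0] using e (Fin.last k)⟩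
    refine ⟨s, hs, eq_mul_inv_of_mul_eq (D.ext (mul_mem (hT c) hs)
      ((Subgroup.mem_normalizer_iff.1 hr.mem_normalizer s).1 hs) fun b => ?_)⟩
    have h4 : ∀ v, L (Φ ww * s * (Φ ww)⁻¹) (L (Φ ww) v) = L (Φ ww) (L s v) := fun v => by
      rw [← LinearEquiv.mul_apply, ← map_mul, inv_mul_cancel_right, map_mul, LinearEquiv.mul_apply]
    rw [map_mul, LinearEquiv.mul_apply]
    by_cases hb : b = Fin.last k
    · refine smul_right_injective V h0 ?_
      have h5 := h4 (Fr.b (Fin.last k, false))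
      rw [show L s (Fr.b (Fin.last k, false)) = _ from (opp (D.iso s) (D.mem_T.1 hs) h3).2, map_smul,
        show L (Φ ww) (Fr.b (ng (Fin.last k, true))) = _ from hw2, hw2, map_smul] at h5
      have h6 : (c : fixedField D.card) * (x * x ^ q) = 1 := by rw [hx]; simp
      show p0.c • _ = p0.c • _
      rw [hb, h5, h3, map_smul, hd1, smul_comm _ p0.c, smul_smul x, D.σ]
      congr 2
      exact eq_inv_of_mul_eq_one_left (by linear_combination h6)
    · have h5 := h4 (Fr.b (b, true))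
      rw [hf _ (b, true) hb] at h5
      rw [h5, tor_e (D.mem_T.1 hs), map_smul, map_smul, hf _ (b, true) hb, hf _ (b, true) hb]

include R in
/-- there is no graph automorphism -/
theorem perm_eq_one {γ : MulAut Y} {σ : Equiv.Perm (Fin (k + 1))} (E : Diag (WittModel.T M) (WittModel.X M) γ σ) :
    σ = 1 := by
  rcases k with _ | _ | k
  · exact Equiv.ext fun _ => Subsingleton.elim (α := Fin 1) _ _
  swap
  · exact Equiv.ext (H694.fix_B (by omega) σ (E.matrix R))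
  by_contra h1
  have h2 : σ⁻¹ (Fin.castSucc 0) = Fin.last 1 := by
    clear E
    revert σ
    decide
  obtain ⟨Φ, N⟩ := nd_last D hε hn R
  have hne : (((0 : Fin 1).castSucc, true) : Fin 2 × Bool).1 ≠ (((0 : Fin 1).succ, false) : Fin 2 × Bool).1 := by decide
  have h3 : ∀ g, g ∈ WittModel.X M (sr (Fin.castSucc 0)) ↔ ∃ t, L g = Fr.X _ _ t := fun g => by
    refine D.mem_map.trans ?_
    rw [rg_sr, nx_castSucc, PG_ne Fr hne]
    rfl
  have h4 : ∀ t : F, ∃ u : fixedField D.card, L (γ (Φ (uu u))) = Fr.X _ _ t := fun t => by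
    have h5 : M.φ ⟨_, M.hX _ _ t⟩ ∈ zc (WittModel.X M (sr (Fin.castSucc 0))) := ⟨(h3 _).2 ⟨t, D.eq _⟩, fun y hy => by
      obtain ⟨s, hs⟩ := (h3 y).1 hy
      refine D.inj ?_
      rw [map_mul, map_mul, hs, D.eq, ← Fr.X_add, ← Fr.X_add, add_comm s]⟩
    have h6 := (zc_iff (E.inv.pos (Fin.castSucc 0)) _).2 h5
    rw [h2] at h6
    obtain ⟨u, hu⟩ := (N.up _).1 h6
    exact ⟨u, by rw [← hu, MulAut.apply_inv_self, D.eq]⟩
  choose u hu using h4
  have h5 := Nat.card_le_card_of_injective u fun s t e => by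
    have h6 := congrArg (fun g => g (Fr.b (TitsThree.WittFrame.neg ((0 : Fin 1).succ, false)))) ((hu s).symm.trans (e ▸ hu t))
    simp only [X_apply_neg Fr hne, add_right_inj] at h6
    exact smul_left_injective F (WittRGD.b_ne_zero _) h6
  rw [card_fixedField, Nat.card_eq_fintype_card, D.card] at h5
  have := two_le D.card
  nlinarith

include R in
theorem qb_uf (hp : p.Prime) (hp2 : p ≠ 2) (hY : commutator Y = ⊤)
    (hnf : H69.OQ.NoFix cs (isCartan (k + 1)) (WittModel.T M) (WittModel.X M))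
    (hord : ∀ j : ℕ, 2 ^ j ∣ Nat.card Y → ∀ t, t * Δ.index = (q ^ 2 - 1) ^ (k + 1) →
      2 ^ j ∣ t * (q + 1) ^ (k + 1) * (k + 1).factorial) : QB Y := by
  have hG := GG_top (T := WittModel.T M) (WittModel.G1_eq_top M k.succ_pos cs)
  obtain ⟨Φ, N⟩ := nd_last D hε hn R
  choose β hβ using fun a : Fin (k + 1) => TypeC.exists_long cs (a, true)
  have h1 : ∀ σ : Equiv.Perm (Fin (k + 1)), ∃ w, ∀ a, rep cs (isCartan (k + 1)) w (β a) = β (σ a) := fun σ => by
    obtain ⟨w, hw, e⟩ := (D.ld hn R).exists_pw' σ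
    refine ⟨w, fun a => TypeC.ee_injective ?_⟩
    rw [H694.EB.homB_ee cs w (hβ a), homB_WJ cs hw, hβ, ← e]
    rfl
  have h2 : β (Fin.last k) = sr (Fin.last k) := TypeC.ee_injective ((hβ _).trans ee_last.symm)
  have h3 : ∀ a, ee (-β a) = wt (a, false) + wt (a, false) := fun a => by
    rw [TypeC.ee_neg, hβ, neg_add, ← TypeC.wt_ng]
    rfl
  have h4 : ∀ {a b : Fin (k + 1)} (s t : Bool) {x y : Fin (k + 1) → ℤ}, a ≠ b → ee x = wt (a, s) + wt (a, s) →
      ee y = wt (b, t) + wt (b, t) → zc (WittModel.X M x) ≤ Subgroup.centralizer (zc (WittModel.X M y)) := by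
    intro a b s t x y hab hx hy u hu v hv
    obtain ⟨r, hr, rfl⟩ := (mem_zc_long D hε hx).1 hu
    obtain ⟨r', -, rfl⟩ := (mem_zc_long D hε hy).1 hv
    refine D.inj ?_
    rw [map_mul, map_mul]
    exact ClsWitt.commute_ZL (a := (a, s)) (c := (b, t)) (Or.inr rfl) (fun h => hab (congrArg Prod.fst h).symm)
      (fun h => hab (congrArg Prod.fst h).symm) (by rw [PG_self]; exact ⟨r', D.eq _⟩) ⟨r, hr, D.eq _⟩
  refine qb_of_count R hp hG hY (D.ld hn R).T_comm hnf (nq_of_ld (D.ld hn R) hp hp2 hG hnf) (k := fixedField D.card)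
    (β := β) (fun a => ?_) (fun a b hab u hu v hv => ?_) (fun γ σ E => ⟨1, ?_⟩)
    (fun σ => (h1 σ).imp fun w hw a => Or.inl (hw a)) fun j hj => ?_
  · obtain ⟨w, hw⟩ := h1 (Equiv.swap (Fin.last k) a)
    obtain ⟨g, hg⟩ := exists_rp cs R.nsys w
    have h5 := N.conj hg
    rw [← h2, hw, Equiv.swap_apply_left] at h5
    exact ⟨_, h5⟩
  · have h5 : LZ (WittModel.X M) (β a) ≤ Subgroup.centralizer (LZ (WittModel.X M) (β b)) := sup_le
      (Subgroup.le_centralizer_iff.1 (sup_le (h4 _ _ hab.symm (hβ b) (hβ a)) (h4 _ _ hab.symm (h3 b) (hβ a))))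
      (Subgroup.le_centralizer_iff.1 (sup_le (h4 _ _ hab.symm (hβ b) (h3 a)) (h4 _ _ hab.symm (h3 b) (h3 a))))
    exact (h5 hu v hv).symm
  · obtain rfl := perm_eq_one D hε hn R E
    rw [map_one, one_mul]
    exact ⟨E.tor, Or.inl fun x hx y => E.root_comp R (fun _ _ => rfl) hx y⟩
  · rw [card_fixedField, Fintype.card_fin]
    refine hord j hj _ ?_
    let π : (Fin (k + 1) → Fˣ) →* Fˣ := MonoidHom.mk' (fun d => ∏ i, d i) fun _ _ => Finset.prod_mul_distrib
    have h5 : (D.ld hn R).τ.range = Δ.comap π := Subgroup.ext fun d =>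
      ⟨fun ⟨t, e⟩ => e ▸ (D.ld hn R).τ_mem t, fun hd => (D.ld hn R).τ_surj hd⟩
    rw [← Subgroup.index_comap_of_surjective Δ (f := π) fun x => ⟨Pi.mulSingle 0 x, Fintype.prod_pi_mulSingle' (0 : Fin (k + 1)) x⟩,
      Nat.card_congr (MonoidHom.ofInjective (D.ld hn R).τ_inj).toEquiv, h5, Subgroup.card_mul_index, Nat.card_fun,
      Nat.card_units, Nat.card_eq_fintype_card, D.card, Nat.card_eq_fintype_card, Fintype.card_fin]

end uf

open Cfsg.Agent.TitsThree.KSideU Cfsg.Agent.TitsThree.KSideUDesc Cfsg.Agent.H69.OQ in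
/-- **`SU_N(q)`** -/
theorem qb_su {F : Type} [Field F] [Fintype F] {q N : ℕ} (hF : Fintype.card F = q ^ 2) (hq : Odd q) (hN : 3 ≤ N) :
    QB (SU N F q) := by
  have : Fact (ringChar F).Prime := ⟨CharP.char_is_prime F _⟩
  have h2 := FA.two_ne_of_odd (hF ▸ hq.pow)
  have h3 := two_le hF
  have hY := LieClassical.HermPerfect.commutator_SU_eq_top hF hN (by obtain ⟨k, hk⟩ := hq; omega)
  have hc : E2 ((q + 1) * Nat.card (SU N F q)) (∏ i ∈ Finset.range N, gf q i) :=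
    S0278.result hF N (by omega) ▸ E2.odd_mul hq.pow
  obtain ⟨t, j, ht, h⟩ := exists_two_elt hF hq
  obtain ⟨k, hk⟩ : ∃ k, N = 2 * (k + 1) ∨ N = 2 * (k + 1) + 1 := ⟨N / 2 - 1, by omega⟩
  have := TypeC.finite_W (CoxeterMatrix.B (k + 1)).toCoxeterSystem
  rcases hk with hk | hk
  · obtain ⟨W, hV⟩ := exists_wframe_even hF hk
    obtain ⟨p0, hp0, hw0⟩ := WittU.exists_adm hF W
    have D := uf_even hF hq hN W hp0 hw0 hk hV
    refine qb_uf D rfl (fun _ => D.eq _) (WittAll.rgdC_model _ (WittAll.AmbT.of_amb D.amb (ringChar F)) D.c0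
      (CoxeterMatrix.B (k + 1)).toCoxeterSystem)
      Fact.out h2 hY (nofix_tt _ _ D.amb (by omega) ht h) fun j hj t ht => dvd_of_e2 (c := q + 1) (by omega) ?_ hj
    have h4 := Subgroup.card_mul_index ((powMonoidHom q : Fˣ →* Fˣ).eqLocus (MonoidHom.id Fˣ))
    rw [Nat.card_congr (α := (powMonoidHom q : Fˣ →* Fˣ).eqLocus (MonoidHom.id Fˣ)) (β := (fixedField hF)ˣ)
      ⟨fun x => Units.mk0 ⟨x.1, congrArg Units.val x.2⟩ fun h => x.1.ne_zero (congrArg Subtype.val h),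
        fun u => ⟨Units.map (fixedField hF).subtype.toMonoidHom u, Units.ext u.1.2⟩,
        fun _ => Subtype.ext (Units.ext rfl), fun _ => Units.ext (Subtype.ext rfl)⟩, Nat.card_units, card_fixedField,
      Nat.card_units, Nat.card_eq_fintype_card, hF, ← one_pow 2, Nat.sq_sub_sq, mul_comm (q + 1)] at h4
    rw [Nat.eq_of_mul_eq_mul_left (by omega) h4] at ht
    rw [← mul_assoc, ← mul_assoc, mul_comm (q + 1) t, ht]
    exact hc.trans (hk ▸ (e2_su h3 hq (k + 1)).1)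
  · obtain ⟨W, d, hd, hV⟩ := exists_wframe_odd hF hk
    obtain ⟨p0, hp0, hw0⟩ := WittU.exists_adm hF W
    have D := uf_odd hF hq hN W hp0 hw0 hd hV
    refine qb_uf D rfl (fun _ => D.eq _) (WittAll.rgdC_model _ (WittAll.AmbT.of_amb D.amb (ringChar F)) D.c0
      (CoxeterMatrix.B (k + 1)).toCoxeterSystem)
      Fact.out h2 hY ?_ fun j hj t ht => dvd_of_e2 (c := q + 1) (by omega) ?_ hj
    · rcases k with _ | k
      · exact nofix_su3 hF hq hN W hd hV _
      · exact nofix_tt _ _ D.amb (by omega) ht h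
    · rw [Subgroup.index_top, mul_one] at ht
      rw [ht]
      exact hc.trans (hk ▸ (e2_su h3 hq (k + 1)).2)

/-- **the row of `PSU_n(q)`, `q` odd** -/
theorem boxB_psu : RowB PsuO := Cv.rowB_psu rowO_u43 fun _ _ _ _ _ hq hF hn => qb_su hF hq hn

end Cfsg.Agent.ODD.QB
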