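import Cfsg.Agent.ODD.PS.Main
import Cfsg.Agent.H55.Sd.Norm
import Cfsg.Agent.KFacts.RgdAut

/-!
# ODD, box QB: the group theory in `Aut Y` (helper9)

* `exists_ext`: extension of a homomorphism from `H` to `J H`, trivial on `J`;
* `transfer`: from a subgroup of odd index of `A Inn(Y)` to `A`;
* `Fr U T Z m`: a frame over the abelian group `T` (commuting rank one groups `KK Z a` with two poles);
* `Fr.exists_odd`: a linear character of a Sylow `2`-subgroup of the normaliser of the frame gives one of a subgroup of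
  odd index, with the same square on the `2`-elements of `T`.
-/

set_option autoImplicit false
set_option linter.unusedSectionVars false

namespace Cfsg.Agent.ODD.QB

open Cfsg Cfsg.Agent.H55.Sd Cfsg.Agent.KFacts.RgdAut Cfsg.Agent.H643.Sd

section gen

variable {Γ : Type*} [Group Γ]

theorem exists_ext {B : Type*} [Group B] {J H : Subgroup Γ} (hn : ∀ r ∈ H, ∀ k ∈ J, r * k * r⁻¹ ∈ J) (f : H →* B)
    (hf : ∀ x : H, (x : Γ) ∈ J → f x = 1) :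
    ∃ g : ↥(J ⊔ H) →* B, (∀ x (hx : x ∈ H), g ⟨x, Subgroup.mem_sup_right hx⟩ = f ⟨x, hx⟩) ∧
      ∀ x (hx : x ∈ J), g ⟨x, Subgroup.mem_sup_left hx⟩ = 1 := by
  have h1 : ∀ x : ↥(J ⊔ H), ∃ r : H, (x : Γ) * (r : Γ)⁻¹ ∈ J := fun x => by
    obtain ⟨k, hk, r, hr, e⟩ := exists_mul_of_sup hn x.2
    exact ⟨⟨r, hr⟩, by rw [e, mul_inv_cancel_right]; exact hk⟩
  choose r hr using h1
  have h2 : ∀ (x : ↥(J ⊔ H)) (s : H), (x : Γ) * (s : Γ)⁻¹ ∈ J → f (r x) = f s := fun x s hs => by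
    rw [← mul_inv_eq_one, ← map_inv, ← map_mul]
    refine hf _ ?_
    have e : ((r x * s⁻¹ : H) : Γ) = ((x : Γ) * (r x : Γ)⁻¹)⁻¹ * (x * (s : Γ)⁻¹) := by
      rw [Subgroup.coe_mul, Subgroup.coe_inv]; group
    rw [e]
    exact mul_mem (inv_mem (hr x)) hs
  refine ⟨MonoidHom.mk' (fun x => f (r x)) fun a b => ?_, fun x hx => ?_, fun x hx => ?_⟩
  · rw [← map_mul]
    refine h2 _ _ ?_
    have e : ((a * b : ↥(J ⊔ H)) : Γ) * ((r a * r b : H) : Γ)⁻¹ =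
        (a * (r a : Γ)⁻¹) * (r a * (b * (r b : Γ)⁻¹) * (r a : Γ)⁻¹) := by
      rw [Subgroup.coe_mul, Subgroup.coe_mul]; group
    rw [e]
    exact mul_mem (hr a) (hn _ (r a).2 _ (hr b))
  · exact h2 _ ⟨x, hx⟩ (by rw [mul_inv_cancel]; exact one_mem _)
  · exact (h2 _ 1 (by rw [Subgroup.coe_one, inv_one, mul_one]; exact hx)).trans (map_one f)

variable [Finite Γ]

/-- a normal subgroup whose squares lie in a subgroup of odd index -/
theorem le_of_sq {H D L : Subgroup Γ} (hH : H ≤ L) (hD : D ≤ L) (hodd : Odd (H.relIndex L))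
    (hn : ∀ l ∈ H, ∀ d ∈ D, l * d * l⁻¹ ∈ D) (hsq : ∀ d ∈ D, d * d ∈ H) : D ≤ H := by
  have h1 : H.relIndex (D ⊔ H) = H.relIndex D := relIndex_eq_of_mul le_sup_left fun l hl => exists_mul_of_sup hn hl
  have h2 : Odd (H.subgroupOf D).index := by
    refine hodd.of_dvd_nat ?_
    show H.relIndex D ∣ _
    rw [← h1, ← Subgroup.relIndex_mul_relIndex _ _ _ (le_sup_right : H ≤ D ⊔ H) (sup_le hD hH)]
    exact dvd_mul_right _ _
  have h3 : ∀ g x : D, x ∈ H.subgroupOf D → g * x * g⁻¹ ∈ H.subgroupOf D := fun g x hx => by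
    have e : g * x * g⁻¹ = (g * x) * (g * x) * x⁻¹ * (g⁻¹ * g⁻¹) := by group
    rw [e]
    exact mul_mem (mul_mem (hsq _ (g * x).2) (inv_mem hx)) (hsq _ (g⁻¹).2)
  intro g hg
  refine PS.mem_of_odd_index h2 (g := ⟨g, hg⟩) (Subgroup.mem_normalizer_iff.2 fun x => ⟨h3 _ x, fun hx => ?_⟩) (k := 1)
    (by rw [pow_one, pow_two]; exact hsq g hg)
  have h4 := h3 (⟨g, hg⟩ : D)⁻¹ _ hx
  rwa [inv_inv, ← mul_assoc, ← mul_assoc, inv_mul_cancel, one_mul, inv_mul_cancel_right] at h4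

/-- the `2`-part and the odd part -/
theorem exists_parts (t : Γ) : ∃ (a k j : ℕ), Odd j ∧ (t ^ a) ^ 2 ^ k = 1 ∧ ((t ^ a)⁻¹ * t) ^ j = 1 := by
  obtain ⟨k, m, hm, h⟩ := Nat.exists_eq_two_pow_mul_odd (Nat.card_pos (α := Γ)).ne'
  have hcop : (2 ^ k).Coprime m := Nat.Coprime.pow_left k (Nat.coprime_two_left.2 hm)
  obtain ⟨a, h1, h2⟩ := Nat.chineseRemainder hcop 1 0
  have h0 : t ^ (2 ^ k * m) = 1 := by rw [← h, pow_card_eq_one']
  refine ⟨a, k, m, hm, ?_, ?_⟩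
  · obtain ⟨j, rfl⟩ := Nat.modEq_zero_iff_dvd.1 h2
    rw [← pow_mul, show m * j * 2 ^ k = 2 ^ k * m * j by ring, pow_mul, h0, one_pow]
  · obtain ⟨j, hj⟩ := h1.dvd
    have h3 : (t ^ a)⁻¹ * t = t ^ ((1 : ℤ) - a) := by
      rw [sub_eq_neg_add, zpow_add, zpow_neg, zpow_natCast, zpow_one]
    rw [Nat.cast_one] at hj
    rw [h3, hj, ← zpow_natCast, ← zpow_mul, show ((2 ^ k : ℕ) : ℤ) * j * m = ((2 ^ k * m : ℕ) : ℤ) * j by push_cast; ring,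
      zpow_mul, zpow_natCast, h0, one_zpow]

omit [Finite Γ] in
theorem eq_one_of_pow {t : Γ} {k j : ℕ} (hj : Odd j) (h1 : t ^ 2 ^ k = 1) (h2 : t ^ j = 1) : t = 1 := by
  have h3 := Nat.dvd_gcd (orderOf_dvd_of_pow_eq_one h1) (orderOf_dvd_of_pow_eq_one h2)
  rwa [(Nat.Coprime.pow_left k (Nat.coprime_two_left.2 hj)).gcd_eq_one, Nat.dvd_one, orderOf_eq_one_iff] at h3

end gen

variable {Y : Type} [Group Y] [Finite Y]

/-- the inner automorphisms -/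
abbrev Inn (Y : Type) [Group Y] : Subgroup (MulAut Y) := (MulAut.conj : Y →* MulAut Y).range

theorem finite_aut : Finite (MulAut Y) := Finite.of_injective _ DFunLike.coe_injective

theorem odd_map {K : Subgroup Y} (hK : Odd K.index) : Odd ((K.map (MulAut.conj : Y →* MulAut Y)).relIndex (Inn Y)) := by
  rw [← Subgroup.index_comap]
  exact hK.of_dvd_nat (Subgroup.index_dvd_of_le (Subgroup.le_comap_map _ _))

omit [Finite Y] in
theorem conj_mem_Inn {γ δ : MulAut Y} (hδ : δ ∈ Inn Y) : γ * δ * γ⁻¹ ∈ Inn Y := by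
  obtain ⟨x, rfl⟩ := hδ
  exact ⟨γ x, (mul_conj_mul_inv γ x).symm⟩

/-- **From a subgroup of odd index to `A`.** -/
theorem transfer {Q : Sylow 2 Y} {A : Subgroup (MulAut Y)} (c : Ctx Q A) {H : Subgroup (MulAut Y)} (hH : H ≤ Inn Y ⊔ A)
    (hodd : Odd (H.relIndex (Inn Y ⊔ A))) (f : H →* ℂˣ) {t : Y} {k : ℕ} (ht : t ^ 2 ^ k = 1) (hm : MulAut.conj t ∈ H)
    (hf : f ⟨_, hm⟩ ^ 2 ≠ 1) :
    ∃ (f : A →* ℂˣ) (x : Y) (hx : x ∈ (Q : Subgroup Y)), f ⟨MulAut.conj x, c.inner x hx⟩ ^ 2 ≠ 1 := by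
  have := finite_aut (Y := Y)
  have hQ : Odd (((Q : Subgroup Y).map (MulAut.conj : Y →* MulAut Y)).relIndex (Inn Y)) :=
    odd_map (by rw [← Nat.not_even_iff_odd, even_iff_two_dvd]; exact Q.not_dvd_index)
  have hQA : (Q : Subgroup Y).map (MulAut.conj : Y →* MulAut Y) ≤ A := by
    rintro _ ⟨x, hx, rfl⟩
    exact c.inner x hx
  have hA : Odd (A.relIndex (Inn Y ⊔ A)) :=
    hQ.of_dvd_nat (relIndex_dvd_of_mul le_sup_left (fun l hl => exists_mul_of_sup (fun _ _ _ hk => conj_mem_Inn hk) hl)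
      (Subgroup.map_le_range _ _) hQA)
  have h2 : IsPGroup 2 (Subgroup.zpowers (MulAut.conj t)) := by
    rintro ⟨_, j, rfl⟩
    refine ⟨k, Subtype.ext ?_⟩
    show (MulAut.conj t ^ j) ^ 2 ^ k = 1
    rw [← zpow_natCast, ← zpow_mul, mul_comm, zpow_mul, zpow_natCast, ← map_pow, ht, map_one, one_zpow]
  obtain ⟨P, hPH, htP, hP2, hPo⟩ := exists_syl h2 (Subgroup.zpowers_le.2 hm)
  have hP : Odd (P.relIndex (Inn Y ⊔ A)) := by
    rw [← Subgroup.relIndex_mul_relIndex _ _ _ hPH hH]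
    exact hPo.mul hodd
  obtain ⟨γ, hγ, h3⟩ := exists_conj_le (hPH.trans hH) hP2 hP le_sup_right c.isP
  have h4 : P.map (MulAut.conj γ).toMonoidHom ≤ A := by
    refine le_of_odd (fun a ha => ⟨_, h3 a ha, ?_⟩) ?_ (hP2.map _) hA
    · show γ * (γ⁻¹ * a * γ) * γ⁻¹ = a
      group
    · rintro _ ⟨y, hy, rfl⟩
      exact mul_mem (mul_mem hγ (hH (hPH hy))) (inv_mem hγ)
  have h5 : MulAut.conj (γ t) ∈ A := by
    rw [← mul_conj_mul_inv]
    exact h4 ⟨_, htP (Subgroup.mem_zpowers _), rfl⟩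
  obtain ⟨x, hx, e⟩ := le_of_odd (le_inf hQA (Subgroup.map_le_range _ _)) inf_le_right (c.isP.to_le inf_le_left) hQ
    ⟨h5, _, rfl⟩
  let φ : A →* H :=
    { toFun := fun a => ⟨γ⁻¹ * a * γ, hPH (h3 a a.2)⟩
      map_one' := Subtype.ext (by simp)
      map_mul' := fun a b => Subtype.ext (by simp only [Subgroup.coe_mul]; group) }
  refine ⟨f.comp φ, x, hx, ?_⟩
  have e2 : φ ⟨MulAut.conj x, c.inner x hx⟩ = ⟨_, hm⟩ := Subtype.ext (by
    show γ⁻¹ * MulAut.conj x * γ = MulAut.conj t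
    rw [e, ← mul_conj_mul_inv]
    group)
  rwa [MonoidHom.comp_apply, e2]

/-! ### the parts of an abelian group -/

/-- the `2`-elements -/
def T2 {T : Subgroup Y} (hc : ∀ a ∈ T, ∀ b ∈ T, a * b = b * a) : Subgroup Y where
  carrier := {t | t ∈ T ∧ ∃ k : ℕ, t ^ 2 ^ k = 1}
  one_mem' := ⟨one_mem _, 0, one_pow _⟩
  mul_mem' := by
    rintro a b ⟨ha, k, hk⟩ ⟨hb, l, hl⟩
    refine ⟨mul_mem ha hb, k + l, ?_⟩
    have h1 : Commute a b := hc a ha b hb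
    rw [h1.mul_pow, pow_add, pow_mul, hk, one_pow, mul_comm (2 ^ k), pow_mul, hl, one_pow, one_mul]
  inv_mem' := by
    rintro a ⟨ha, k, hk⟩
    exact ⟨inv_mem ha, k, by rw [inv_pow, hk, inv_one]⟩

/-- the elements of odd order -/
def To {T : Subgroup Y} (hc : ∀ a ∈ T, ∀ b ∈ T, a * b = b * a) : Subgroup Y where
  carrier := {t | t ∈ T ∧ ∃ j : ℕ, Odd j ∧ t ^ j = 1}
  one_mem' := ⟨one_mem _, 1, odd_one, one_pow _⟩
  mul_mem' := by
    rintro a b ⟨ha, k, hk, hk'⟩ ⟨hb, l, hl, hl'⟩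
    refine ⟨mul_mem ha hb, k * l, hk.mul hl, ?_⟩
    have h1 : Commute a b := hc a ha b hb
    rw [h1.mul_pow, pow_mul, hk', one_pow, mul_comm k, pow_mul, hl', one_pow, one_mul]
  inv_mem' := by
    rintro a ⟨ha, k, hk, hk'⟩
    exact ⟨inv_mem ha, k, hk, by rw [inv_pow, hk', inv_one]⟩

omit [Finite Y] in
theorem isPGroup_T2 {T : Subgroup Y} (hc : ∀ a ∈ T, ∀ b ∈ T, a * b = b * a) : IsPGroup 2 (T2 hc) := by
  rintro ⟨t, -, k, hk⟩
  exact ⟨k, Subtype.ext hk⟩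

/-! ### frames -/

variable {ι : Type} [Fintype ι]

/-- the rank one groups -/
def KK (Z : ι × Bool → Subgroup Y) (a : ι) : Subgroup Y := Z (a, true) ⊔ Z (a, false)

/-- `γ` permutes the poles as `π` -/
def Acts (Z : ι × Bool → Subgroup Y) (γ : MulAut Y) (π : Equiv.Perm (ι × Bool)) : Prop :=
  (∀ a s, π (a, !s) = ((π (a, s)).1, !(π (a, s)).2)) ∧ ∀ x y, γ y ∈ Z (π x) ↔ y ∈ Z x

omit [Finite Y] [Fintype ι] in
theorem Acts.mul {Z : ι × Bool → Subgroup Y} {γ δ : MulAut Y} {π ψ : Equiv.Perm (ι × Bool)} (h1 : Acts Z γ π)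
    (h2 : Acts Z δ ψ) : Acts Z (γ * δ) (π * ψ) :=
  ⟨fun a s => by rw [Equiv.Perm.mul_apply, h2.1, h1.1]; rfl, fun x y => by
    rw [MulAut.mul_apply, Equiv.Perm.mul_apply, h1.2, h2.2]⟩

omit [Finite Y] [Fintype ι] in
theorem Acts.inv {Z : ι × Bool → Subgroup Y} {γ : MulAut Y} {π : Equiv.Perm (ι × Bool)} (h1 : Acts Z γ π) :
    Acts Z γ⁻¹ π⁻¹ :=
  ⟨fun a s => by
    apply π.injective
    rw [h1.1]
    simp, fun x y => by rw [← h1.2, MulAut.apply_inv_self]; simp⟩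

/-- the automorphisms of the frame -/
def NH (T : Subgroup Y) (Z : ι × Bool → Subgroup Y) : Subgroup (MulAut Y) where
  carrier := {γ | Fix γ T ∧ ∃ π, Acts Z γ π}
  one_mem' := ⟨fun _ => Iff.rfl, 1, fun _ _ => rfl, fun _ _ => Iff.rfl⟩
  mul_mem' := fun ⟨h1, _, h2⟩ ⟨h3, _, h4⟩ => ⟨h1.mul h3, _, h2.mul h4⟩
  inv_mem' := fun ⟨h1, _, h2⟩ => ⟨h1.inv, _, h2.inv⟩

/-- **A frame.** -/
structure Fr (U T : Subgroup Y) (Z : ι × Bool → Subgroup Y) (m : ι → Y) : Prop where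
  comm : ∀ a ∈ T, ∀ b ∈ T, a * b = b * a
  inj : Function.Injective Z
  orth : ∀ a b, a ≠ b → ∀ x ∈ KK Z a, ∀ y ∈ KK Z b, Commute x y
  tor : ∀ t ∈ T, ∀ x y, t * y * t⁻¹ ∈ Z x ↔ y ∈ Z x
  mK : ∀ a, m a ∈ KK Z a
  mT : ∀ a, m a ∈ Subgroup.normalizer (T : Set Y)
  msq : ∀ a, m a * m a ∈ T
  swap : ∀ a s y, m a * y * (m a)⁻¹ ∈ Z (a, !s) ↔ y ∈ Z (a, s)
  bru : ∀ a, ∀ k ∈ KK Z a, ∃ u ∈ U ⊓ KK Z a, ∃ v ∈ U ⊓ KK Z a, ∃ t ∈ T ⊓ KK Z a, k = u * t * v ∨ k = u * (t * m a) * v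
  uniq : ∀ u ∈ U, ∀ v ∈ U, ∀ k ∈ Subgroup.normalizer (T : Set Y), u * k * v ∈ Subgroup.normalizer (T : Set Y) →
    u * k * v = k
  ker : ∀ a, ∀ t ∈ T ⊓ KK Z a, ∃ s ∈ T, t = m a * s * (m a)⁻¹ * s⁻¹

omit [Finite Y] in
theorem fix_conj {T : Subgroup Y} {g : Y} : Fix (MulAut.conj g) T ↔ g ∈ Subgroup.normalizer (T : Set Y) := by
  rw [Subgroup.mem_normalizer_iff]
  exact forall_congr' fun x => by rw [MulAut.conj_apply]; exact Iff.comm

namespace Fr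

variable {U T : Subgroup Y} {Z : ι × Bool → Subgroup Y} {m : ι → Y} (F : Fr U T Z m)

include F

theorem pairwise : Pairwise fun i j : ι => ∀ x y : Y, x ∈ KK Z i → y ∈ KK Z j → Commute x y :=
  fun i j hij x y hx hy => F.orth i j hij x hx y hy

theorem prod_mem {L : Subgroup Y} {x : ∀ a, KK Z a} (hx : ∀ a, (x a : Y) ∈ L) :
    Subgroup.noncommPiCoprod F.pairwise x ∈ L := by
  rw [Subgroup.noncommPiCoprod_apply]
  exact Subgroup.noncommProd_mem _ _ fun a _ => hx a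

theorem T_le : T ≤ Subgroup.normalizer (T : Set Y) := Subgroup.le_normalizer

/-- the elements of the product of the rank one groups which normalise `T` -/
theorem dec {k : Y} (hk : k ∈ ⨆ a, KK Z a) (hn : k ∈ Subgroup.normalizer (T : Set Y)) :
    ∃ x : ∀ a, KK Z a, k = Subgroup.noncommPiCoprod F.pairwise x ∧
      ∀ a, ∃ t ∈ T ⊓ KK Z a, (x a : Y) = t ∨ (x a : Y) = t * m a := by
  rw [← Subgroup.noncommPiCoprod_range (hcomm := F.pairwise)] at hk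
  obtain ⟨y, rfl⟩ := hk
  have h1 : ∀ a, ∃ u x v : KK Z a, (u : Y) ∈ U ∧ (v : Y) ∈ U ∧ y a = u * x * v ∧
      ∃ t ∈ T ⊓ KK Z a, (x : Y) = t ∨ (x : Y) = t * m a := fun a => by
    obtain ⟨u, hu, v, hv, t, ht, e | e⟩ := F.bru a _ (y a).2
    · exact ⟨⟨u, hu.2⟩, ⟨t, ht.2⟩, ⟨v, hv.2⟩, hu.1, hv.1, Subtype.ext e, t, ht, Or.inl rfl⟩
    · exact ⟨⟨u, hu.2⟩, ⟨t * m a, mul_mem ht.2 (F.mK a)⟩, ⟨v, hv.2⟩, hu.1, hv.1, Subtype.ext e, t, ht, Or.inr rfl⟩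
  choose u x v hu hv e hx using h1
  refine ⟨x, ?_, hx⟩
  have e1 : y = u * x * v := funext e
  rw [e1, map_mul, map_mul] at hn ⊢
  refine F.uniq _ (F.prod_mem hu) _ (F.prod_mem hv) _ (F.prod_mem fun a => ?_) hn
  obtain ⟨t, ht, h | h⟩ := hx a
  · rw [h]; exact F.T_le ht.1
  · rw [h]; exact mul_mem (F.T_le ht.1) (F.mT a)

theorem ind {L : Subgroup Y} (h1 : ∀ a, T ⊓ KK Z a ≤ L) (h2 : ∀ a, m a ∈ L) :
    (⨆ a, KK Z a) ⊓ Subgroup.normalizer (T : Set Y) ≤ L := by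
  rintro k ⟨hk, hn⟩
  obtain ⟨x, rfl, hx⟩ := F.dec hk hn
  refine F.prod_mem fun a => ?_
  obtain ⟨t, ht, h | h⟩ := hx a
  · rw [h]; exact h1 a ht
  · rw [h]; exact mul_mem (h1 a ht) (h2 a)

theorem sq_mem {k : Y} (hk : k ∈ (⨆ a, KK Z a) ⊓ Subgroup.normalizer (T : Set Y)) : k * k ∈ T := by
  obtain ⟨x, rfl, hx⟩ := F.dec hk.1 hk.2
  rw [← map_mul]
  refine F.prod_mem fun a => ?_
  obtain ⟨t, ht, h | h⟩ := hx a
  · rw [Pi.mul_apply, Subgroup.coe_mul, h]; exact mul_mem ht.1 ht.1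
  · have e : t * m a * (t * m a) = t * (m a * t * (m a)⁻¹) * (m a * m a) := by group
    rw [Pi.mul_apply, Subgroup.coe_mul, h, e]
    exact mul_mem (mul_mem ht.1 ((Subgroup.mem_normalizer_iff.1 (F.mT a) t).1 ht.1)) (F.msq a)

theorem acts_T {t : Y} (ht : t ∈ T) : Acts Z (MulAut.conj t) 1 := ⟨fun _ _ => rfl, fun x y => F.tor t ht x y⟩

theorem conj_T {t : Y} (ht : t ∈ T) : MulAut.conj t ∈ NH T Z := ⟨fix_conj.2 (F.T_le ht), 1, F.acts_T ht⟩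

omit F in
theorem Z_le (x : ι × Bool) : Z x ≤ KK Z x.1 := by
  obtain ⟨a, _ | _⟩ := x
  exacts [le_sup_right, le_sup_left]

theorem acts_m [DecidableEq ι] (a : ι) : Acts Z (MulAut.conj (m a)) (Equiv.swap (a, true) (a, false)) := by
  have h1 : ∀ s, Equiv.swap (a, true) (a, false) (a, s) = (a, !s) := fun s => by cases s <;> simp
  have h2 : ∀ b s, b ≠ a → Equiv.swap (a, true) (a, false) (b, s) = (b, s) := fun b s hb =>
    Equiv.swap_apply_of_ne_of_ne (fun h => hb (congrArg Prod.fst h)) fun h => hb (congrArg Prod.fst h)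
  refine ⟨fun b s => ?_, ?_⟩
  · by_cases hb : b = a
    · rw [hb, h1, h1]
    · rw [h2 b _ hb, h2 b _ hb]
  · rintro ⟨b, s⟩ y
    rw [MulAut.conj_apply]
    by_cases hb : b = a
    · rw [hb, h1, F.swap]
    · rw [h2 b _ hb]
      have h3 : ∀ g ∈ KK Z a, ∀ y ∈ Z (b, s), g * y * g⁻¹ = y := fun g hg y hy => by
        rw [(F.orth a b (Ne.symm hb) g hg y (Z_le (Z := Z) (b, s) hy)).eq, mul_inv_cancel_right]
      refine ⟨fun h => ?_, fun h => by rwa [h3 _ (F.mK a) y h]⟩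
      have h4 := h3 _ (inv_mem (F.mK a)) _ h
      rw [inv_inv, ← mul_assoc, ← mul_assoc, inv_mul_cancel, one_mul, inv_mul_cancel_right] at h4
      rwa [h4]

theorem conj_m (a : ι) : MulAut.conj (m a) ∈ NH T Z := by
  classical exact ⟨fix_conj.2 (F.mT a), _, F.acts_m a⟩

theorem acts_unique {γ : MulAut Y} {π ψ : Equiv.Perm (ι × Bool)} (h1 : Acts Z γ π) (h2 : Acts Z γ ψ) : π = ψ := by
  ext1 x
  refine F.inj (Subgroup.ext fun y => ?_)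
  have h3 := (h1.2 x (γ⁻¹ y)).trans (h2.2 x (γ⁻¹ y)).symm
  rwa [MulAut.apply_inv_self] at h3

omit F in
theorem map_KK {γ : MulAut Y} {π : Equiv.Perm (ι × Bool)} (h : Acts Z γ π) (a : ι) {y : Y} (hy : y ∈ KK Z a) :
    γ y ∈ KK Z (π (a, true)).1 := by
  have h1 : KK Z a ≤ (KK Z (π (a, true)).1).comap γ.toMonoidHom := by
    refine sup_le (fun y hy => Z_le _ ((h.2 _ y).2 hy)) fun y hy => ?_
    have h2 := Z_le _ ((h.2 _ y).2 hy)
    rwa [show (a, false) = (a, !true) from rfl, h.1] at h2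
  exact h1 hy

omit F in
theorem map_K {γ : MulAut Y} (hγ : γ ∈ NH T Z) {y : Y} (hy : y ∈ ⨆ a, KK Z a) : γ y ∈ ⨆ a, KK Z a := by
  obtain ⟨-, π, h⟩ := hγ
  have h1 : (⨆ a, KK Z a) ≤ (⨆ a, KK Z a).comap γ.toMonoidHom :=
    iSup_le fun a y hy => le_iSup (KK Z) _ (map_KK h a hy)
  exact h1 hy

theorem m_not_mem (a : ι) : m a ∉ T := fun h => by
  have h1 : Z (a, !true) = Z (a, true) := Subgroup.ext fun y => by
    have h2 := F.swap a true ((m a)⁻¹ * y * (m a)⁻¹⁻¹)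
    rw [F.tor _ (inv_mem h)] at h2
    rwa [show m a * ((m a)⁻¹ * y * (m a)⁻¹⁻¹) * (m a)⁻¹ = y by group] at h2
  exact absurd (congrArg Prod.snd (F.inj h1)) (by simp)

theorem map_m {γ : MulAut Y} (hT : Fix γ T) {π : Equiv.Perm (ι × Bool)} (h : Acts Z γ π) (a : ι) :
    ∃ t ∈ T ⊓ KK Z (π (a, true)).1, γ (m a) = t * m (π (a, true)).1 := by
  have h1 : γ (m a) ∈ Subgroup.normalizer (T : Set Y) := (hT.normalizer _).2 (F.mT a)
  obtain ⟨u, hu, v, hv, t, ht, e | e⟩ := F.bru _ _ (map_KK h a (F.mK a))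
  · rw [e] at h1
    rw [F.uniq u hu.1 v hv.1 t (F.T_le ht.1) h1] at e
    exact absurd ((hT _).1 (e ▸ ht.1)) (F.m_not_mem a)
  · rw [e] at h1
    exact ⟨t, ht, e.trans (F.uniq u hu.1 v hv.1 _ (mul_mem (F.T_le ht.1) (F.mT _)) h1)⟩

/-- **The correction of the signs.** -/
theorem exists_sign {H : Subgroup (MulAut Y)} (hH : H ≤ NH T Z) (hT : ∀ t ∈ T, MulAut.conj t ∈ H)
    (hm : ∀ a, MulAut.conj (m a) ∈ H) (f : H →* ℂˣ) :
    ∃ g : H →* ℂˣ, (∀ x, g x ^ 2 = f x ^ 2) ∧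
      ∀ k ∈ (⨆ a, KK Z a) ⊓ Subgroup.normalizer (T : Set Y), ∀ hk : MulAut.conj k ∈ H, g ⟨_, hk⟩ = 1 := by
  classical
  have h0 : ∀ a t (ht : t ∈ T ⊓ KK Z a), f ⟨_, hT t ht.1⟩ = 1 := fun a t ht => by
    obtain ⟨s, hs, e⟩ := F.ker a t ht
    have e1 : (⟨_, hT t ht.1⟩ : H) = ⟨_, hm a⟩ * ⟨_, hT s hs⟩ * (⟨_, hm a⟩ : H)⁻¹ * (⟨_, hT s hs⟩ : H)⁻¹ :=
      Subtype.ext (by
        show MulAut.conj t = MulAut.conj (m a) * MulAut.conj s * (MulAut.conj (m a))⁻¹ * (MulAut.conj s)⁻¹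
        rw [e, map_mul, map_mul, map_mul, map_inv, map_inv])
    rw [e1, map_mul, map_mul, map_mul, map_inv, map_inv, mul_comm (f _) (f _), mul_inv_cancel_right, mul_inv_cancel]
  set s : ι → ℂˣ := fun a => f ⟨_, hm a⟩ with hs
  have h1 : ∀ a, s a * s a = 1 := fun a => by
    rw [← h0 a _ ⟨F.msq a, mul_mem (F.mK a) (F.mK a)⟩, hs, ← map_mul]
    exact congrArg f (Subtype.ext (map_mul _ _ _).symm)
  choose π hπ using fun γ : H => (hH γ.2).2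
  have h2 : ∀ (γ : H) a, s (π γ (a, true)).1 = s a := fun γ a => by
    obtain ⟨t, ht, e⟩ := F.map_m (hH γ.2).1 (hπ γ) a
    have e1 : γ * ⟨_, hm a⟩ * γ⁻¹ = ⟨_, hT t ht.1⟩ * ⟨_, hm (π γ (a, true)).1⟩ := Subtype.ext (by
      show (γ : MulAut Y) * MulAut.conj (m a) * (γ : MulAut Y)⁻¹ = MulAut.conj t * MulAut.conj _
      rw [mul_conj_mul_inv, e, map_mul])
    have h3 := congrArg f e1
    rw [map_mul, map_mul, map_mul, map_inv, mul_comm (f γ), mul_inv_cancel_right, h0 _ t ht, one_mul] at h3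
    exact h3.symm
  let c : Equiv.Perm (ι × Bool) → ι → ℂˣ := fun ψ a => if (ψ (a, true)).2 = true then 1 else s a
  let ε : H →* ℂˣ := MonoidHom.mk' (fun γ => ∏ a, c (π γ) a) fun γ δ => by
    have hinj : Function.Injective fun a => (π δ (a, true)).1 := fun a b hab => by
      have hab' : (π δ (a, true)).1 = (π δ (b, true)).1 := hab
      by_cases h3 : (π δ (a, true)).2 = (π δ (b, true)).2
      · exact congrArg Prod.fst ((π δ).injective (Prod.ext hab' h3))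
      · have h4 : π δ (a, true) = π δ (b, !true) := by
          rw [(hπ δ).1]
          exact Prod.ext hab' (Bool.eq_not_iff.2 h3)
        exact congrArg Prod.fst ((π δ).injective h4)
    rw [F.acts_unique (hπ (γ * δ)) ((hπ γ).mul (hπ δ)),
      ← Fintype.prod_bijective _ (Finite.injective_iff_bijective.1 hinj) _ (c (π γ)) fun _ => rfl,
      ← Finset.prod_mul_distrib]
    refine Finset.prod_congr rfl fun a _ => ?_
    have h3 := h2 δ a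
    obtain ⟨⟨b, _ | _⟩, hx⟩ : ∃ x, π δ (a, true) = x := ⟨_, rfl⟩
    all_goals simp only [c, Equiv.Perm.mul_apply, hx] at h3 ⊢
    · rw [show (b, false) = (b, !true) from rfl, (hπ γ).1]
      cases (π γ (b, true)).2
      · simp only [Bool.not_false, Bool.false_eq_true, if_true, if_false]
        rw [h3, h1]
      · simp
    · simp only [if_true, mul_one]
      rw [h3]
  have h4 : ∀ (γ : H) (ψ : Equiv.Perm (ι × Bool)), Acts Z γ ψ → ε γ = ∏ a, c ψ a := fun γ ψ hψ => by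
    rw [← F.acts_unique (hπ γ) hψ]
    rfl
  refine ⟨f * ε, fun x => ?_, ?_⟩
  · rw [MonoidHom.mul_apply, mul_pow, h4 x _ (hπ x), ← Finset.prod_pow, Finset.prod_eq_one, mul_one]
    intro a _
    simp only [c]
    split_ifs
    · exact one_pow _
    · rw [pow_two, h1]
  · have h5 := F.ind (L := ((f * ε).ker.map H.subtype).comap MulAut.conj) (fun a t ht => ⟨⟨_, hT t ht.1⟩, ?_, rfl⟩)
      fun a => ⟨⟨_, hm a⟩, ?_, rfl⟩
    · intro k hk hk'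
      obtain ⟨y, hy, e⟩ := h5 hk
      rw [show (⟨_, hk'⟩ : H) = y from Subtype.ext e.symm]
      exact hy
    · show f _ * ε _ = 1
      rw [h0 a t ht, h4 _ _ (F.acts_T ht.1), one_mul]
      exact Finset.prod_eq_one fun b _ => if_pos rfl
    · show s a * ε _ = 1
      rw [h4 _ _ (F.acts_m a), Finset.prod_eq_single a, ← h1 a]
      · simp [c]
      · intro b _ hb
        simp only [c]
        rw [Equiv.swap_apply_of_ne_of_ne (fun h => hb (congrArg Prod.fst h)) fun h => hb (congrArg Prod.fst h), if_pos rfl]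
      · exact fun h => absurd (Finset.mem_univ a) h

/-- **From the normaliser of the frame to a subgroup of odd index.** -/
theorem exists_odd (haut : ∀ γ : MulAut Y, ∃ g : Y, MulAut.conj g * γ ∈ NH T Z)
    (hodd : Odd ((⨆ a, KK Z a) ⊔ (NH T Z).comap MulAut.conj).index) {Γ : Subgroup (MulAut Y)} (hΓ : Inn Y ≤ Γ)
    (hlin : ∀ S : Subgroup (MulAut Y), S ≤ Γ → IsPGroup 2 S → (∀ γ ∈ S, Fix γ T) →
      (∀ t ∈ T2 F.comm, MulAut.conj t ∈ S) →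
      ∃ (f : S →* ℂˣ) (t : Y) (k : ℕ) (hm : MulAut.conj t ∈ S), t ^ 2 ^ k = 1 ∧ f ⟨_, hm⟩ ^ 2 ≠ 1) :
    ∃ H ≤ Γ, Odd (H.relIndex Γ) ∧
      ∃ (f : H →* ℂˣ) (t : Y) (k : ℕ) (hm : MulAut.conj t ∈ H), t ^ 2 ^ k = 1 ∧ f ⟨_, hm⟩ ^ 2 ≠ 1 := by
  have := finite_aut (Y := Y)
  have hI : ∀ y, MulAut.conj y ∈ Γ := fun y => hΓ ⟨y, rfl⟩
  obtain ⟨S, hSN, hES, hS2, hSo⟩ := exists_syl (H := NH T Z ⊓ Γ) ((isPGroup_T2 F.comm).map MulAut.conj) (by
    rintro _ ⟨t, ht, rfl⟩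
    exact ⟨F.conj_T ht.1, hI t⟩)
  obtain ⟨f, t, k, hm, ht, hf⟩ := hlin S (hSN.trans inf_le_right) hS2 (fun γ hγ => (hSN hγ).1.1)
    fun t ht => hES ⟨t, ht, rfl⟩
  -- the odd part of the torus
  let H₀ := (To F.comm).map MulAut.conj ⊔ S
  obtain ⟨f₀, hf₀, -⟩ := exists_ext (J := (To F.comm).map MulAut.conj) (H := S) (by
    rintro γ hγ _ ⟨o, ⟨ho, j, hj, hj'⟩, rfl⟩
    exact ⟨γ o, ⟨((hSN hγ).1.1 o).2 ho, j, hj, by rw [← map_pow, hj', map_one]⟩, (mul_conj_mul_inv γ o).symm⟩) f (by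
    rintro x ⟨o, ⟨-, j, hj, hj'⟩, e⟩
    obtain ⟨l, hl⟩ := hS2 x
    rw [eq_one_of_pow hj hl (Subtype.ext (by
      show (x : MulAut Y) ^ j = 1
      rw [← e, ← map_pow, hj', map_one])), map_one])
  have hH₀N : H₀ ≤ NH T Z ⊓ Γ := sup_le (by
    rintro _ ⟨t, ht, rfl⟩
    exact ⟨F.conj_T ht.1, hI t⟩) hSN
  have hTH : ∀ t ∈ T, MulAut.conj t ∈ H₀ := fun t ht => by
    obtain ⟨a, k, j, hj, h1, h2⟩ := exists_parts t
    have e : t = (t ^ a) * ((t ^ a)⁻¹ * t) := by group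
    rw [e, map_mul]
    exact mul_mem (Subgroup.mem_sup_right (hES ⟨_, ⟨pow_mem ht a, k, h1⟩, rfl⟩))
      (Subgroup.mem_sup_left ⟨_, ⟨mul_mem (inv_mem (pow_mem ht a)) ht, j, hj, h2⟩, rfl⟩)
  have hMN : (⨆ a, KK Z a) ⊓ Subgroup.normalizer (T : Set Y) ≤ (NH T Z).comap MulAut.conj :=
    F.ind (fun a t ht => F.conj_T ht.1) F.conj_m
  have hMH : ((⨆ a, KK Z a) ⊓ Subgroup.normalizer (T : Set Y)).map MulAut.conj ≤ H₀ := by
    refine le_of_sq hH₀N ?_ (hSo.of_dvd_nat (Subgroup.relIndex_dvd_of_le_left _ le_sup_right)) ?_ ?_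
    · rintro _ ⟨y, hy, rfl⟩
      exact ⟨hMN hy, hI y⟩
    · rintro γ hγ _ ⟨y, hy, rfl⟩
      exact ⟨γ y, ⟨map_K (hH₀N hγ).1 hy.1, ((hH₀N hγ).1.1.normalizer _).2 hy.2⟩, (mul_conj_mul_inv γ y).symm⟩
    · rintro _ ⟨y, hy, rfl⟩
      rw [← map_mul]
      exact hTH _ (F.sq_mem hy)
  obtain ⟨f₁, hf₁, hf₁'⟩ := F.exists_sign (hH₀N.trans inf_le_left) hTH
    (fun a => hMH ⟨_, ⟨le_iSup (KK Z) a (F.mK a), F.mT a⟩, rfl⟩) f₀
  have hKn : ∀ γ ∈ NH T Z, ∀ x ∈ (⨆ a, KK Z a).map (MulAut.conj : Y →* MulAut Y),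
      γ * x * γ⁻¹ ∈ (⨆ a, KK Z a).map (MulAut.conj : Y →* MulAut Y) := by
    rintro γ hγ _ ⟨y, hy, rfl⟩
    exact ⟨γ y, map_K hγ hy, (mul_conj_mul_inv γ y).symm⟩
  obtain ⟨f₂, hf₂, -⟩ := exists_ext (J := (⨆ a, KK Z a).map MulAut.conj) (H := H₀)
    (fun γ hγ => hKn γ (hH₀N hγ).1) f₁ (by
      rintro ⟨_, hx⟩ ⟨y, hy, rfl⟩
      exact hf₁' y ⟨hy, fix_conj.1 (hH₀N hx).1.1⟩ hx)
  have hKΓ : (⨆ a, KK Z a).map (MulAut.conj : Y →* MulAut Y) ≤ Γ := (Subgroup.map_le_range _ _).trans hΓ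
  refine ⟨_, sup_le hKΓ (hH₀N.trans inf_le_right), ?_, f₂, t, k,
    Subgroup.mem_sup_right (Subgroup.mem_sup_right hm), ht, ?_⟩
  · rw [← Subgroup.relIndex_mul_relIndex _ ((⨆ a, KK Z a).map (MulAut.conj : Y →* MulAut Y) ⊔ (NH T Z ⊓ Γ)) _
      (sup_le_sup_left hH₀N _) (sup_le hKΓ inf_le_right)]
    refine Odd.mul (hSo.of_dvd_nat (relIndex_dvd_of_mul le_sup_right (fun l hl => ?_) hSN
      (le_sup_right.trans le_sup_right))) ((odd_map hodd).of_dvd_nat (relIndex_dvd_of_mul hΓ (fun γ hγ => ?_)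
      (Subgroup.map_le_range _ _) ?_))
    · obtain ⟨x, hx, r, hr, rfl⟩ := exists_mul_of_sup (fun γ (hγ : γ ∈ NH T Z ⊓ Γ) => hKn γ hγ.1) hl
      exact ⟨r, hr, _, Subgroup.mem_sup_left (hKn r⁻¹ (inv_mem hr.1) x hx), by group⟩
    · obtain ⟨g, hg⟩ := haut γ
      exact ⟨(MulAut.conj g)⁻¹, inv_mem ⟨g, rfl⟩, _, Subgroup.mem_sup_right ⟨hg, mul_mem (hI g) hγ⟩, by group⟩
    · rw [Subgroup.map_sup]
      refine sup_le_sup_left ?_ _
      rintro _ ⟨y, hy, rfl⟩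
      exact ⟨hy, hI y⟩
  · rw [hf₂ _ (Subgroup.mem_sup_right hm), hf₁, hf₀ _ hm]
    exact hf

end Fr

end Cfsg.Agent.ODD.QB
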