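import Cfsg.Agent.ODD.QB.Rgd
import Cfsg.Agent.ODD.Pos.Sq
import Cfsg.Agent.ODD.Hk.Main
import Cfsg.Agent.H491.Sd.FrInst

/-!
# ODD, box QB: the covers of `E₆(q)` and `²E₆(q)`, `q` odd (helper60)

* `Ex.frame_lift`, `Ex.odd_lift`: frames lift to a central extension;
* `Ex.pm_e6`, `Ex.pm_f4`: the automorphisms of the root group data;
* `boxB_e6_of`, `boxB_tw_of`: the rows from `Ex.QF`.
-/

set_option autoImplicit false
set_option linter.unusedSectionVars false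

namespace Cfsg.Agent.ODD.QB

open Cfsg Matrix CoxeterSystem Cfsg.Agent.ChevalleyStructure.CoxeterGeom Cfsg.Agent.Tits.Roots Cfsg.Agent.Nodes.Reps
  Cfsg.Agent.Nodes.BNOf Cfsg.Agent.Nodes.Bruhat Cfsg.Agent.H310.OQ Cfsg.Agent.ClosedExc.Frame
  Cfsg.Agent.Nodes.RGDLift Cfsg.Agent.ODD.Cv Cfsg.Agent.ODD.Pos Cfsg.Agent.KFacts.RgdAut Cfsg.Agent.KFacts.RgdDiag
open Cfsg.Agent.H491.Sd (MF PM)
open Cfsg.Agent.Nodes.FreeTorus (LL)

namespace Ex

/-- the criterion for frames of long roots -/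
def QF : Prop := ∀ {I W Y : Type} [Fintype I] [DecidableEq I] [Group W] [Finite W] [Group Y] [Finite Y]
  {M : CoxeterMatrix I} {cs : CoxeterSystem M W} {A : I → I → ℤ} {h : IsCartan M A} {p : ℕ} {T : Subgroup Y}
  {n : I → Y} {X : (I → ℤ) → Subgroup Y} (R : RGD cs h p T n X), p.Prime → GG cs h T X = ⊤ → commutator Y = ⊤ →
  (∀ a ∈ T, ∀ b ∈ T, a * b = b * a) → H69.OQ.NoFix cs h T X → NQ R →
  ∀ {k : Type} [Field k] (Φ : SpecialLinearGroup (Fin 2) k →* Y) (i : I), n i = Φ ww →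
  (∀ g, g ∈ X (sr i) ↔ ∃ t, g = Φ (uu t)) → (∀ c, Φ (dd c) ∈ T) →
  (∀ c, ∃ s ∈ T, Φ (dd c) = Φ ww * s * (Φ ww)⁻¹ * s⁻¹) →
  ∀ {ι : Type} [Fintype ι] {β : ι → I → ℤ} {P : Subgroup W}, FrameData cs h X β P →
  (∀ a, ∃ w, β a = rep cs h w (sr i)) → (∀ γ σ, Diag T X γ σ → ∃ g, PM cs h T X (MulAut.conj g * γ)) →
  Odd (MF R β P).index → QB Y

section gen

variable {I W Y Y' : Type} [Fintype I] [DecidableEq I] [Group W] [Finite W] [Group Y] [Finite Y] [Group Y'] [Finite Y']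
  {M : CoxeterMatrix I} {cs : CoxeterSystem M W} {A : I → I → ℤ} {h : IsCartan M A} {p : ℕ} [Fact p.Prime]
  {T' : Subgroup Y'} {n' : I → Y'} {X' : (I → ℤ) → Subgroup Y'} {f : Y →* Y'}
  {ι : Type} [Fintype ι] {β : ι → I → ℤ} {P : Subgroup W}

/-- a `p`-element commutes with `b` if the images commute -/
theorem comm_lift (E : CE p f) {a b : Y} {k : ℕ} (ha : a ^ p ^ k = 1) (hc : Commute (f a) (f b)) : Commute a b := by
  have h1 : f (b * a * b⁻¹ * a⁻¹) = 1 := by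
    rw [map_mul, map_mul, map_mul, map_inv, map_inv, ← hc.eq]
    group
  have h2 : Commute (b * a * b⁻¹ * a⁻¹) a := (Subgroup.mem_center_iff.1 (E.cen h1) a).symm
  have h3 : (b * a * b⁻¹ * a⁻¹ * a) ^ p ^ k = 1 := by rw [inv_mul_cancel_right, conj_pow, ha, mul_one, mul_inv_cancel]
  rw [h2.mul_pow, ha, mul_one] at h3
  have h4 := eq_one_of_ker E.cop h1 h3
  rw [mul_inv_eq_one, mul_inv_eq_iff_eq_mul] at h4
  exact h4.symm

theorem map_LL {x : I → ℤ} {b : Y} (hb : b ∈ LL (fun x => lft p f (X' x)) x) : f b ∈ LL X' x := by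
  have h1 : LL (fun x => lft p f (X' x)) x ≤ (LL X' x).comap f :=
    sup_le (fun y hy => Subgroup.mem_sup_left (map_lft_le p f _ (Subgroup.mem_map_of_mem f hy)))
      fun y hy => Subgroup.mem_sup_right (map_lft_le p f _ (Subgroup.mem_map_of_mem f hy))
  exact h1 hb

theorem lc_lift (R' : RGD cs h p T' n' X') (E : CE p f) {x y : I → ℤ} (hx : IsRoot cs h x) (hc : LC X' x y) :
    LC (fun x => lft p f (X' x)) x y := by
  intro a ha b hb
  have h1 : LL (fun x => lft p f (X' x)) x ≤ Subgroup.centralizer {b} := by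
    refine sup_le (fun u hu => ?_) fun u hu => ?_
    · obtain ⟨h2, k, hk⟩ := (mem_lft E.cen (R'.pgrp' hx)).1 hu
      exact Subgroup.mem_centralizer_singleton_iff.2 (comm_lift E hk (hc _ (Subgroup.mem_sup_left h2) _ (map_LL hb))).eq
    · obtain ⟨h2, k, hk⟩ := (mem_lft E.cen (R'.pgrp' hx.neg)).1 hu
      exact Subgroup.mem_centralizer_singleton_iff.2 (comm_lift E hk (hc _ (Subgroup.mem_sup_right h2) _ (map_LL hb))).eq
  exact Subgroup.mem_centralizer_singleton_iff.1 (h1 ha)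

theorem frame_lift (R' : RGD cs h p T' n' X') (E : CE p f) (F : FrameData cs h X' β P) :
    FrameData cs h (fun x => lft p f (X' x)) β P :=
  ⟨F.root, fun a b hab => lc_lift R' E (F.root a) (F.orth a b hab), F.perm, F.faith⟩

theorem odd_lift (R' : RGD cs h p T' n' X') (E : CE p f) {n : I → Y}
    (R : RGD cs h p (T'.comap f) n fun x => lft p f (X' x)) (hn : ∀ i, f (n i) = n' i) (hβ : ∀ a, IsRoot cs h (β a))
    (ho : Odd (MF R' β P).index) : Odd (MF R β P).index := by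
  have hT : T'.comap f ≤ MF R β P := (T_le_NP R).trans le_sup_right
  have h1 : MF R' β P ≤ (MF R β P).map f := by
    refine sup_le (iSup_le fun a => sup_le ?_ ?_) ?_
    · rw [← map_lft E.cen E.cop E.surj (R'.pgrp' (hβ a))]
      exact Subgroup.map_mono (le_sup_left.trans ((le_iSup (fun a => LL (fun x => lft p f (X' x)) (β a)) a).trans
        le_sup_left))
    · rw [← map_lft E.cen E.cop E.surj (R'.pgrp' (hβ a).neg)]
      exact Subgroup.map_mono (le_sup_right.trans ((le_iSup (fun a => LL (fun x => lft p f (X' x)) (β a)) a).trans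
        le_sup_left))
    · rintro g ⟨w, hw, hg⟩
      obtain ⟨k, hk⟩ := exists_rp cs R.nsys w
      obtain ⟨t, ht⟩ := E.surj ((f k)⁻¹ * g)
      have h2 : t ∈ T'.comap f := by
        rw [Subgroup.mem_comap, ht]
        exact (rp_map hn R.nsys R'.nsys hk).unique hg
      exact ⟨k * t, mul_mem (Subgroup.mem_sup_right ⟨w, hw, hk⟩) (hT h2), by rw [map_mul, ht, mul_inv_cancel_left]⟩
  have h2 : (MF R' β P).comap f ≤ MF R β P := by
    intro g hg
    obtain ⟨k, hk, e⟩ := h1 hg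
    have h3 : k⁻¹ * g ∈ T'.comap f := by
      rw [Subgroup.mem_comap, map_mul, map_inv, e, inv_mul_cancel]
      exact one_mem _
    exact (Subgroup.mul_mem_cancel_left _ (inv_mem hk)).1 (hT h3)
  rw [← Subgroup.index_comap_of_surjective _ E.surj] at ho
  exact ho.of_dvd_nat (Subgroup.index_dvd_of_le h2)

variable {T : Subgroup Y} {n : I → Y} {X : (I → ℤ) → Subgroup Y}

theorem exists_comm {R : RGD cs h p T n X} {c : I → I → ℤ} {g : I → Y} (C : Tor R c g) (i : I) (m : ℤ) :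
    ∃ s ∈ T, g i ^ m = n i * s * (n i)⁻¹ * s⁻¹ := by
  obtain ⟨j, hj⟩ := C.sur i
  refine ⟨g j ^ m, zpow_mem (C.mem j) m, ?_⟩
  rw [← conj_zpow, C.conj, hj, zpow_one, C.comm _ (C.mem j) _ (C.mem i),
    Commute.mul_zpow (C.comm _ (C.mem i) _ (C.mem j)), mul_inv_cancel_right]

/-- **`QB` for a datum with nodes of type `SL₂`** -/
theorem qb_inS (hQ : QF) (hp2 : p ≠ 2) (hY : commutator Y = ⊤) {k : I → Type} [∀ i, Field (k i)]
    {Φ : ∀ i, SpecialLinearGroup (Fin 2) (k i) →* Y} (S : InS p cs h T X Φ) {ω : ∀ i, (k i)ˣ}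
    (hω : ∀ i c, c ∈ Subgroup.zpowers (ω i)) {c : I → I → ℤ} (C : Tor S.inp.rgd c fun i => Φ i (dd (ω i)))
    (H : SqC S.inp.rgd) (i : I) (F : FrameData cs h X β P) (hb : ∀ a, ∃ w, β a = rep cs h w (sr i))
    (hD : ∀ γ σ, Diag T X γ σ → ∃ g, PM cs h T X (MulAut.conj g * γ)) (ho : Odd (MF S.inp.rgd β P).index) : QB Y := by
  refine hQ S.inp.rgd Fact.out S.inp.top hY S.inp.comm S.inp.nofix (nq_of_sq S.inp.rgd (AH.main Hk.ho) Fact.out hp2
    S.inp.top S.inp.comm S.inp.nofix fun _ hl _ => H.sq hl) (Φ i) i rfl (S.u i) (S.d i) (fun a => ?_) F hb hD ho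
  obtain ⟨m, rfl⟩ := hω i a
  rw [map_zpow, map_zpow]
  exact exists_comm C i m

end gen

variable {W Y : Type} [Group W] [Finite W] [Group Y] [Finite Y] {p : ℕ} [Fact p.Prime] {T : Subgroup Y}

section e6

open Cfsg.Lie Cfsg.Agent.ChevalleyStructure.CoxeterGeomTypes Cfsg.Agent.H491.Sd.FrE6 Cfsg.Agent.ClosedExc

variable {cs : CoxeterSystem CoxeterMatrix.E₆ W} {n : Fin 6 → Y} {X : (Fin 6 → ℤ) → Subgroup Y}

/-- type `E₆` (the proof of `FrE6.pm_of_diag`) -/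
theorem pm_e6 (R : RGD cs hp6.isCartan p T n X) {γ : MulAut Y} {σ : Equiv.Perm (Fin 6)} (D : Diag T X γ σ) :
    ∃ g, PM cs hp6.isCartan T X (MulAut.conj g * γ) := by
  have hσ := D.matrix R
  rcases perm_E6 σ hσ with h1 | h1
  · have h2 : σ = 1 := Equiv.ext h1
    subst h2
    refine ⟨1, ?_⟩
    rw [map_one, one_mul]
    exact ⟨D.tor, Or.inl fun x hx y => D.root_comp R (fun _ _ => rfl) hx y⟩
  · obtain ⟨k, hk⟩ := exists_rp cs R.nsys (WFr.wd cs w0E6)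
    have hA : ∀ i j, cartanOf chevE6 6 (σ i) (σ j) = cartanOf chevE6 6 i j := fun i j => by
      rw [h1, h1]
      exact cartan_flip i j
    refine ⟨k, Fix.mul (fun x => ?_) D.tor, Or.inr fun x hx y => ?_⟩
    · rw [MulAut.conj_apply]
      exact (Subgroup.mem_normalizer_iff.1 hk.mem_normalizer x).symm
    · have h3 : IsRoot cs hp6.isCartan (x ∘ σ.symm) := by
        have h4 := hx.neg.act (WFr.wd cs w0E6)⁻¹
        rwa [← rep_w0_comp cs h1 x, rep_inv_apply] at h4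
      rw [MulAut.mul_apply, MulAut.conj_apply, ← D.root_comp R hA hx y]
      have h5 : cj k (X (x ∘ σ.symm)) = X (-x) := by
        rw [← rep_w0_comp cs h1 x]
        exact R.conj_rp hk h3
      rw [← h5]
      exact conj_mem_cj

theorem root_e6 {x : Fin 6 → ℤ} (hx : IsRoot cs hp6.isCartan x) : ∃ w, x = rep cs hp6.isCartan w (sr 0) := by
  obtain ⟨w, j, rfl⟩ := hx
  obtain ⟨ω, hω⟩ : ∃ ω ∈ [[], [0, 2], [2, 3, 0, 2], [3, 1, 2, 3, 0, 2], [3, 4, 2, 3, 0, 2], [4, 5, 3, 4, 2, 3, 0, 2]],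
      scw (-E6.A6) ω (sr 0) = sr j := by
    revert j
    decide +kernel
  refine ⟨w * cs.wordProd ω, ?_⟩
  rw [← E6.cartan_eq] at hω
  rw [rep_mul_apply, rep_word, hω.2]

end e6

section f4

open Cfsg.Agent.H491.Sd.FrTw

variable {cs : CoxeterSystem CoxeterMatrix.F₄ W} {A : Fin 4 → Fin 4 → ℤ} {h : IsCartan CoxeterMatrix.F₄ A}
  {n : Fin 4 → Y} {X : (Fin 4 → ℤ) → Subgroup Y}

/-- type `F₄` (the proof of `FrTw.pm_of_diag`) -/
theorem pm_f4 (R : RGD cs h p T n X) (hc : Nat.card (X (sr 3)) ≠ Nat.card (X (sr 0))) {γ : MulAut Y}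
    {σ : Equiv.Perm (Fin 4)} (D : Diag T X γ σ) : ∃ g, PM cs h T X (MulAut.conj g * γ) := by
  have hσ := D.matrix R
  rcases perm_F4 σ hσ with rfl | h3
  · refine ⟨1, ?_⟩
    rw [map_one, one_mul]
    refine ⟨D.tor, Or.inl ?_⟩
    rintro x ⟨w, i, rfl⟩ y
    have h1 := D.root R hσ w i y
    rw [hat_one, Equiv.Perm.one_apply] at h1
    exact h1
  · have h1 : (X (sr 0)).map γ.toMonoidHom = X (sr 3) := H491.Sd.map_eq_of_iff fun y => by
      have := D.pos 0 y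
      rwa [h3] at this
    refine absurd ?_ hc
    rw [← h1]
    exact (Nat.card_congr (Subgroup.equivMapOfInjective _ γ.toMonoidHom γ.injective).toEquiv).symm

end f4

end Ex

open Cfsg.Lie Cfsg.Agent.ODD.PX Cfsg.Agent.H491.Sd

/-- **the row of `E₆(q)`, `q` odd** -/
theorem boxB_e6_of (hQ : Ex.QF) : RowB (ChevO chevE6) := by
  intro G _ _ c
  obtain ⟨F, _, _, hF, ⟨e⟩⟩ := c.fam
  obtain ⟨p, _, hp, hp2, -⟩ := exists_char F hF
  have : Fact p.Prime := ⟨hp⟩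
  have hW : Finite CoxeterMatrix.E₆.Group := Nodes.RGDChev.finite_W hp6 CoxeterMatrix.E₆.toCoxeterSystem
  have : Finite ↥(chevE6.group F) := Finite.of_equiv _ e.toEquiv
  obtain ⟨γ, hγ⟩ := IsCyclic.exists_generator (α := Fˣ)
  obtain ⟨Φ, S, h1, -, C⟩ := E6.exists_tor c e hp2 CoxeterMatrix.E₆.toCoxeterSystem hγ
  have E := (e6_ce c e p).1
  have R' := Nodes.RGDChev.rgd (K := F) hp6 CoxeterMatrix.E₆.toCoxeterSystem p
  have D := FrInst.frameData_e6 F CoxeterMatrix.E₆.toCoxeterSystem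
  exact Ex.qb_inS hQ hp2 (perfect c) S (ω := fun _ => γ) (fun _ => hγ) C (E6.sqC E6.cartan_eq C) 0
    (Ex.frame_lift R' E D) (fun a => Ex.root_e6 (D.root a)) (fun _ _ => Ex.pm_e6 S.inp.rgd)
    (Ex.odd_lift R' E S.inp.rgd (fun i => (h1 i _).trans (phi_ww hp6 F i)) D.root
      (FrE6.odd_index_e6 F _ p hF D (Fintype.card_fin 4) (FrInst.card_P_e6 _)))

/-- **the row of `²E₆(q)`, `q` odd** -/
theorem boxB_tw_of (hQ : Ex.QF) : RowB TwE6O := by
  intro G _ _ c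
  obtain ⟨F, _, _, q, hF, hq, hc, ⟨e⟩⟩ := c.fam
  obtain ⟨p, _, hp, hp2, -⟩ := exists_char F hF
  have : Fact p.Prime := ⟨hp⟩
  obtain ⟨φ, hφ, hqq⟩ := ChevalleyStructure.TwE6Basic.exists_frob hq hc
  have hW : Finite CoxeterMatrix.F₄.Group := Nodes.RGDFold.finite_W (hp := Nodes.RGDTwE6.hp)
    CoxeterMatrix.F₄.toCoxeterSystem Nodes.RGDTwE6.isCartan Nodes.RGDTwE6.foldData
  let _ := k4Field φ
  obtain ⟨Φ, ω, S, h1, h2, C, ho⟩ := Tw.exists_tor' c hq hc e hφ hqq p hp2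
  have E := (tw_ce c hq hc e p).1
  have R' := Nodes.RGDTwE6.rgd CoxeterMatrix.F₄.toCoxeterSystem hφ hqq p
  have D := FrInst.frameData_tw (φ := φ) (q := q) CoxeterMatrix.F₄.toCoxeterSystem
  have hq1 := hq.one_lt
  have h3 : ((q ^ 2 - 1 : ℕ) : ℤ) = (q + 1) * (q - 1) := by
    rw [Nat.cast_sub (Nat.one_le_pow _ _ hq1.le)]
    push_cast
    ring
  refine Ex.qb_inS hQ hp2 (perfect c) S h2 C (Tw.sqC C ?_) 0 (Ex.frame_lift R' E D) (FrInst.long_tw _)
    (fun _ _ => Ex.pm_f4 S.inp.rgd ?_) (Ex.odd_lift R' E S.inp.rgd h1 D.root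
      (FrTw.odd_index_tw hφ hqq _ p hq hc ?_ D (Fintype.card_fin 4) (FrInst.card_P_tw _) (FrInst.long_tw _)))
  · rw [← orderOf_dvd_iff_zpow_eq_one, ho 3]
    exact dvd_of_eq h3
  · rw [← C.order 3, ← C.order 0, ho 3, ho 0]
    show q ^ 2 - 1 + 1 ≠ q - 1 + 1
    have h4 : q * 1 < q * q := Nat.mul_lt_mul_of_pos_left hq1 (by omega)
    rw [pow_two]
    omega
  · rw [hc] at hF
    exact (Nat.odd_pow_iff two_ne_zero).1 hF

end Cfsg.Agent.ODD.QB
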