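import Cfsg.Agent.ODD.QB.SU
import Cfsg.Agent.ODD.QB.E6
import Cfsg.Agent.ODD.Spor.TitsB

/-!
# ODD, box QB: the assembly (helper9)

* `boxB_e6`, `boxB_tw`, **`boxB : BoxB`**.
-/

set_option autoImplicit false

namespace Cfsg.Agent.ODD.QB

open Cfsg

theorem qf : Ex.QF := fun R hp hG hY hc hnf hq _ _ Φ i hn hup htor hker _ _ _ _ F hb hD hodd =>
  qb_of_frameData R hp hG hY hc hnf hq Φ i hn hup htor hker F hb hD hodd

theorem boxB_e6 : RowB (ChevO Lie.chevE6) := boxB_e6_of qf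

theorem boxB_tw : RowB TwE6O := boxB_tw_of qf

/-- **the box `B`** -/
theorem boxB : BoxB := ⟨boxB_psl, boxB_psu, boxB_e6, boxB_tw, Spor.titsB⟩

end Cfsg.Agent.ODD.QB
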