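import Cfsg.Agent.ODD.QB.Rgd
import Cfsg.Agent.ODD.FA.SL
import Cfsg.Agent.H755.Sd.Syl

/-!
# ODD, box QB: the groups `SL_n(q)` (helper9)

* `qb_of_norm`: `QB Y` if the normaliser of the torus has odd index; `nq_of_ld`;
* `qb_sl`, **`boxB_psl : RowB PslO`**.
-/

set_option autoImplicit false
set_option linter.unusedSectionVars false

namespace Cfsg.Agent.ODD.QB

open Cfsg Matrix CoxeterSystem Cfsg.Agent.ChevalleyStructure.CoxeterGeom Cfsg.Agent.Tits.Roots Cfsg.Agent.Nodes.Reps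
  Cfsg.Agent.Nodes.BNOf Cfsg.Agent.Nodes.Bruhat Cfsg.Agent.ODD.FA

section gen

variable {I W Y : Type} [Fintype I] [DecidableEq I] [Group W] [Finite W] [Group Y] [Finite Y]
  {M : CoxeterMatrix I} {cs : CoxeterSystem M W} {A : I → I → ℤ} {h : IsCartan M A} {p : ℕ} {T : Subgroup Y}
  {n : I → Y} {X : (I → ℤ) → Subgroup Y} {R : RGD cs h p T n X}

/-- the empty frame -/
theorem qb_of_norm (hp : p.Prime) (hG : GG cs h T X = ⊤) (hY : commutator Y = ⊤)
    (hc : ∀ a ∈ T, ∀ b ∈ T, a * b = b * a) (hnf : H69.OQ.NoFix cs h T X) (hq : NQ R)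
    (hodd : Odd (Subgroup.normalizer (T : Set Y)).index) : QB Y := by
  have h1 : ∀ γ, KFacts.RgdAut.Fix γ T → γ ∈ NH T (fun _ : Empty × Bool => (⊥ : Subgroup Y)) := fun γ hγ =>
    ⟨hγ, 1, fun a => a.elim, fun x => x.1.elim⟩
  refine qb_of_frame R hp hG hY hnf hq (Z := fun _ : Empty × Bool => ⊥) (m := fun _ => 1)
    ⟨hc, fun x => x.1.elim, fun a => a.elim, fun _ _ x => x.1.elim, fun a => a.elim, fun a => a.elim, fun a => a.elim,
      fun a => a.elim, fun a => a.elim, uniq R hG hnf, fun a => a.elim⟩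
    (fun γ σ D => ⟨1, by rw [map_one, one_mul]; exact h1 γ D.tor⟩)
    (hodd.of_dvd_nat (Subgroup.index_dvd_of_le fun g hg => Subgroup.mem_sup_right (h1 _ (fix_conj.2 hg))))

theorem nq_of_ld {F : Type} [Field F] [Finite F] {k : ℕ} (L : LD R F k) (hp : p.Prime) (hp2 : p ≠ 2)
    (hG : GG cs h T X = ⊤) (hnf : H69.OQ.NoFix cs h T X) : NQ R :=
  nq_of_sq R (AH.main Hk.ho) hp hp2 hG L.T_comm hnf fun _ hl _ => by
    obtain ⟨β, hβ⟩ := exists_blk (k + 1)
    obtain ⟨nu, f, g, hg, hc, G⟩ := L.exists_gd hβ hl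
    exact ⟨nu, g, hg, hc, G.sq⟩

end gen

theorem sq_eq_one_of_not_four {F : Type} [Field F] [Fintype F] (hF : ¬ 4 ∣ Fintype.card F - 1) {x : Fˣ} {j : ℕ}
    (hx : x ^ 2 ^ j = 1) : x ^ 2 = 1 := by
  obtain ⟨i, -, hi⟩ := (Nat.dvd_prime_pow Nat.prime_two).1 (orderOf_dvd_of_pow_eq_one hx)
  have h1 := orderOf_dvd_natCard x
  rw [Nat.card_units, Nat.card_eq_fintype_card, hi] at h1
  rw [← orderOf_dvd_iff_pow_eq_one, hi]
  rcases i with _ | _ | i
  · exact one_dvd _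
  · exact dvd_rfl
  · exact absurd ((Dvd.intro_left (2 ^ i) (by ring)).trans h1) hF

open Cfsg.Agent.Nodes.RGDTypeA Cfsg.Agent.H755.Sd.Syl in
theorem odd_norm_sl (F : Type) [Field F] [Fintype F] (n : ℕ) (hF : 4 ∣ Fintype.card F - 1) :
    Odd (Subgroup.normalizer (T (Fin n) F : Set (SpecialLinearGroup (Fin n) F))).index := by
  have : Fact (Nat.Prime 2) := ⟨Nat.prime_two⟩
  have h1 := (odd_index_monK (n := n) hF default default).2
  have h0 : ∀ r : GL (Fin n) F, ∀ k ∈ (SpecialLinearGroup.toGL (n := Fin n) (R := F)).range,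
      r * k * r⁻¹ ∈ (SpecialLinearGroup.toGL (n := Fin n) (R := F)).range := by
    rintro r _ ⟨k, rfl⟩
    refine ⟨⟨(r * SpecialLinearGroup.toGL k * r⁻¹ : GL (Fin n) F), ?_⟩, Units.ext rfl⟩
    rw [← GeneralLinearGroup.val_det_apply, map_mul, map_mul, map_inv, mul_comm (GeneralLinearGroup.det r),
      mul_inv_cancel_right]
    exact k.2
  refine (h1.of_dvd_nat (Subgroup.relIndex_dvd_index_of_le
    (le_sup_right (a := (SpecialLinearGroup.toGL (n := Fin n) (R := F)).range)))).of_dvd_nat ?_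
  rw [H55.Sd.relIndex_eq_of_mul le_sup_left fun l hl => H55.Sd.exists_mul_of_sup (fun r _ => h0 r) hl]
  rw [← Subgroup.index_comap]
  refine Subgroup.index_dvd_of_le ?_
  rintro g ⟨d, σ, -, -, e⟩
  refine Mono.mem_normalizer (σ := σ) fun a b hab => ?_
  have h2 : g.1 a b = _ := (congrArg (fun x : GL (Fin n) F => (x : Matrix (Fin n) (Fin n) F) a b) e).trans (mon_apply d σ a b)
  rw [h2] at hab
  rw [← of_not_not fun h3 => hab (if_neg h3)]
  exact (σ.apply_symm_apply a).symm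

/-- **`SL_n(q)`** -/
theorem qb_sl (F : Type) [Field F] [Fintype F] (n : ℕ) (hF : Odd (Fintype.card F)) (hn : 2 ≤ n) :
    QB (SpecialLinearGroup (Fin n) F) := by
  rcases hn.eq_or_lt with rfl | hn
  · exact OddRat.qb (PS.S2.oddRat_sl2 hF)
  obtain ⟨n, rfl⟩ : ∃ k, n = k + 1 := ⟨n - 1, by omega⟩
  have := finA n
  have : Fact (ringChar F).Prime := ⟨CharP.char_is_prime F _⟩
  have hnf := H69.OQ.nofix_sl (F := F) (LieRecognition.BNCox.cA n).toCoxeterSystem (Nodes.RootsA.isCartan n) (by omega)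
    (Ring.two_ne_zero (two_ne_of_odd hF))
  have L := ldSL n F (ringChar F)
  have hq := nq_of_ld (ldSL n F (ringChar F)) Fact.out (two_ne_of_odd hF) (gg_sl n F) hnf
  by_cases h4 : 4 ∣ Fintype.card F - 1
  · exact qb_of_norm Fact.out (gg_sl n F) (Cv.sl_perf hn.le (by omega)) L.T_comm hnf hq (odd_norm_sl F _ h4)
  · intro Q B c θ hθ ho _ hr
    obtain ⟨lam, -, t, j, ht, hl⟩ := hq θ hθ ho hr
    refine absurd ?_ hl
    rw [← map_pow, show t ^ 2 = 1 from L.τ_inj (by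
      rw [map_pow, map_one]
      exact funext fun i => sq_eq_one_of_not_four h4 (j := j) (by
        rw [← Pi.pow_apply, ← map_pow, ht, map_one, Pi.one_apply])), map_one]

/-- **the row of `PSL_n(q)`, `q` odd** -/
theorem boxB_psl : RowB PslO := Cv.rowB_psl fun F _ _ n hF hn _ => qb_sl F n hF hn

end Cfsg.Agent.ODD.QB
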