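import Cfsg.Agent.ODD.Lev.Ind
import Cfsg.Agent.H670.PSing
import Cfsg.Agent.ODD.Red.Bas

/-!
# ODD, box QB: the parity lemmas (helper9)

* `pr ρ F`: the projection onto the fixed points of `F`;
* `ev_trace`: `E` an abelian `2`-group which normalises `U`, `C_U(E) = 1`, `F` consists of squares of elements of `E`:
  `∑_U tr (pr * ρ u) ≡ tr pr` modulo `2`;
* `exists_lin`: a `2`-group which acts on a space of odd dimension and commutes with a projection of even rank has an
  eigenvector in the kernel of the projection.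
-/

set_option autoImplicit false
set_option linter.unusedSectionVars false

namespace Cfsg.Agent.ODD.QB

open Cfsg Module Cfsg.Agent.Characters Cfsg.Agent.H684.OQ Cfsg.Agent.ODD.Lev

variable {G V : Type} [Group G] [Finite G] [AddCommGroup V] [Module ℂ V] [FiniteDimensional ℂ V]

/-- the trace of an integral endomorphism -/
theorem isIntegral_trace {f : End ℂ V} (hf : IsIntegral ℤ f) : IsIntegral ℤ (LinearMap.trace ℂ V f) := by
  rw [Module.End.trace_eq_sum_roots_charpoly_of_splits (IsAlgClosed.splits _)]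
  apply IsIntegral.multiset_sum
  intro z hz
  have hroot : f.charpoly.IsRoot z := (Polynomial.mem_roots'.1 hz).2
  have hev : f.HasEigenvalue z := (Module.End.hasEigenvalue_iff_isRoot_charpoly f z).2 hroot
  obtain ⟨v, hv⟩ := hev.exists_hasEigenvector
  obtain ⟨P, hP, h0⟩ := hf
  refine ⟨P, hP, ?_⟩
  have h1 := Module.End.aeval_apply_of_hasEigenvector (p := P.map (algebraMap ℤ ℂ)) hv
  rw [Polynomial.aeval_map_algebraMap, Polynomial.aeval_def, h0, LinearMap.zero_apply, Polynomial.eval_map] at h1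
  exact (smul_eq_zero.1 h1.symm).resolve_right hv.2

theorem isIntegral_mul_proj {a π : End ℂ V} (ha : IsIntegral ℤ a) (hπ : π * π = π) (hc : a * π = π * a) :
    IsIntegral ℤ (a * π) := by
  obtain ⟨P, hP, h0⟩ := ha
  have h1 : ∀ k : ℕ, (a * π) ^ k * π = a ^ k * π := fun k => by
    induction k with
    | zero => rw [pow_zero, pow_zero]
    | succ k ih =>
      calc (a * π) ^ (k + 1) * π = (a * π) ^ k * (π * a) := by rw [pow_succ, mul_assoc, mul_assoc, hπ, ← hc]
        _ = a ^ (k + 1) * π := by rw [← mul_assoc, ih, mul_assoc, ← hc, ← mul_assoc, ← pow_succ]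
  have h2 : ∀ Q : Polynomial ℤ, Polynomial.aeval (a * π) Q * π = Polynomial.aeval a Q * π := fun Q => by
    induction Q using Polynomial.induction_on' with
    | add p q hp hq => rw [map_add, map_add, add_mul, add_mul, hp, hq]
    | monomial k c => rw [Polynomial.aeval_monomial, Polynomial.aeval_monomial, mul_assoc, mul_assoc, h1]
  refine ⟨P * Polynomial.X, hP.mul Polynomial.monic_X, ?_⟩
  rw [← Polynomial.aeval_def, map_mul, Polynomial.aeval_X]
  nth_rewrite 2 [hc]
  rw [← mul_assoc, h2, Polynomial.aeval_def, h0, zero_mul, zero_mul]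

variable (ρ : Representation ℂ G V)

theorem isIntegral_sum {ι : Type*} (s : Finset ι) (g : ι → G) : IsIntegral ℤ (∑ i ∈ s, ρ (g i)) := by
  have h1 : IsIntegral ℤ (∑ i ∈ s, MonoidAlgebra.of ℤ G (g i)) := IsIntegral.of_finite ℤ _
  have h2 := h1.map (MonoidAlgebra.lift ℤ (End ℂ V) G ρ)
  rw [map_sum] at h2
  simpa only [MonoidAlgebra.lift_of] using h2

/-- the projection onto the fixed points -/
noncomputable def pr (F : Subgroup G) : End ℂ V := ρ.asAlgebraHom (av (1 : F →* ℂˣ))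

theorem pr_mul_pr (F : Subgroup G) : pr ρ F * pr ρ F = pr ρ F := by rw [pr, ← map_mul, av_mul_av]

theorem pr_eq (F : Subgroup G) [Fintype F] : pr ρ F = (Nat.card F : ℂ)⁻¹ • ∑ f : F, ρ f := by
  rw [pr, av_def, map_smul, map_sum]
  simp only [MonoidHom.one_apply, inv_one, Units.val_one, one_smul, alg_dl]

theorem pr_comm (F : Subgroup G) {s : End ℂ V} (e : F ≃ F) (h : ∀ f : F, s * ρ f = ρ (e f) * s) :
    s * pr ρ F = pr ρ F * s := by
  have := Fintype.ofFinite F
  rw [pr_eq, mul_smul_comm, smul_mul_assoc, Finset.mul_sum, Finset.sum_mul]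
  congr 1
  exact Fintype.sum_equiv e _ _ h

theorem pr_fix {F : Subgroup G} {v : V} (h : ∀ f ∈ F, ρ f v = v) : pr ρ F v = v :=
  av_eq _ fun u => by rw [h u u.2, MonoidHom.one_apply, Units.val_one, one_smul]

/-- a subgroup which covers an abelian `2`-group modulo squares -/
theorem mem_of_sq {E H : Subgroup G} (hE : IsPGroup 2 E) (hc : ∀ a ∈ E, ∀ b ∈ E, a * b = b * a)
    (h : ∀ e ∈ E, ∃ x ∈ E, (x * x)⁻¹ * e ∈ H) {e : G} (he : e ∈ E) : e ∈ H := by
  have key : ∀ k : ℕ, ∀ e ∈ E, ∃ x ∈ E, (x ^ 2 ^ k)⁻¹ * e ∈ H := by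
    intro k
    induction k with
    | zero => exact fun e he => ⟨e, he, by rw [pow_zero, pow_one, inv_mul_cancel]; exact one_mem _⟩
    | succ k ih =>
      intro e he
      obtain ⟨x, hx, h1⟩ := ih e he
      obtain ⟨y, hy, h2⟩ := h x hx
      refine ⟨y, hy, ?_⟩
      have h3 : Commute (y * y)⁻¹ x := hc _ (inv_mem (mul_mem hy hy)) _ hx
      have h4 : (y ^ 2 ^ (k + 1))⁻¹ * e = ((y * y)⁻¹ * x) ^ 2 ^ k * ((x ^ 2 ^ k)⁻¹ * e) := by
        rw [h3.mul_pow, pow_succ', pow_mul, pow_two, inv_pow]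
        group
      rw [h4]
      exact mul_mem (pow_mem h2 _) h1
  obtain ⟨k, hk⟩ := hE.exists_card_eq
  obtain ⟨x, hx, h1⟩ := key k e he
  have h2 : x ^ 2 ^ k = 1 := by
    rw [← hk]
    exact congrArg Subtype.val (pow_card_eq_one' (x := (⟨x, hx⟩ : E)))
  rwa [h2, inv_one, one_mul] at h1

/-- **The parity lemma for the fixed points of the squares.** -/
theorem ev_trace {U E F : Subgroup G} (hE : IsPGroup 2 E) (hc : ∀ a ∈ E, ∀ b ∈ E, a * b = b * a)
    (hsq : ∀ f ∈ F, ∃ e ∈ E, f = e * e) (hn : ∀ d ∈ E, ∀ v ∈ U, d * v * d⁻¹ ∈ U)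
    (hC : ∀ v ∈ U, (∀ d ∈ E, d * v = v * d) → v = 1) [Fintype U] :
    Ev (∑ v : U, LinearMap.trace ℂ V (ρ v * pr ρ F) - LinearMap.trace ℂ V (pr ρ F)) := by
  classical
  have hFE : F ≤ E := fun f hf => by
    obtain ⟨e, he, rfl⟩ := hsq f hf
    exact mul_mem he he
  let φ : E →* Equiv.Perm U :=
    { toFun := fun d =>
        { toFun := fun v => ⟨d * v * (d : G)⁻¹, hn d d.2 v v.2⟩
          invFun := fun v => ⟨(d : G)⁻¹ * v * (d : G)⁻¹⁻¹, hn _ (inv_mem d.2) v v.2⟩
          left_inv := fun v => Subtype.ext (by simp only; group)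
          right_inv := fun v => Subtype.ext (by simp only; group) }
      map_one' := by
        ext v
        simp
      map_mul' := fun a b => by
        ext v
        simp [mul_assoc] }
  have hφ : ∀ (d : E) (v : U), ((φ d v : U) : G) = d * v * (d : G)⁻¹ := fun _ _ => rfl
  let Φ : E →* Equiv.Perm (Finset U) :=
    { toFun := fun d => (φ d).finsetCongr
      map_one' := by
        rw [map_one]
        exact Equiv.finsetCongr_refl
      map_mul' := fun a b => by
        rw [map_mul]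
        exact (Equiv.finsetCongr_trans _ _).symm }
  have hΦ : ∀ (d : E) (s : Finset U), Φ d s = s.map (φ d).toEmbedding := fun _ _ => rfl
  let orb : U → Finset U := fun u => Finset.univ.filter fun v => ∃ f : E, (f : G) ∈ F ∧ v = φ f u
  have horb : ∀ u v, v ∈ orb u ↔ ∃ f : E, (f : G) ∈ F ∧ v = φ f u := fun u v => by simp [orb]
  have hcE : ∀ a b : E, a * b = b * a := fun a b => Subtype.ext (hc a a.2 b b.2)
  have hself : ∀ u, u ∈ orb u := fun u => (horb u u).2 ⟨1, one_mem _, by rw [map_one]; rfl⟩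
  have hmap : ∀ d u, Φ d (orb u) = orb (φ d u) := fun d u => by
    ext v
    rw [hΦ, Finset.mem_map, horb]
    constructor
    · rintro ⟨x, hx, rfl⟩
      obtain ⟨f, hf, rfl⟩ := (horb _ _).1 hx
      refine ⟨f, hf, ?_⟩
      rw [← Equiv.Perm.mul_apply, ← map_mul, hcE, map_mul]
      rfl
    · rintro ⟨f, hf, rfl⟩
      refine ⟨φ f u, (horb _ _).2 ⟨f, hf, rfl⟩, ?_⟩
      rw [← Equiv.Perm.mul_apply, ← map_mul, hcE, map_mul]
      rfl
  have horbF : ∀ f : E, (f : G) ∈ F → ∀ u, orb (φ f u) = orb u := fun f hf u => by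
    ext v
    rw [horb, horb]
    constructor
    · rintro ⟨g, hg, rfl⟩
      exact ⟨g * f, mul_mem hg hf, by rw [map_mul]; rfl⟩
    · rintro ⟨g, hg, rfl⟩
      refine ⟨g * f⁻¹, mul_mem hg (inv_mem hf), ?_⟩
      rw [← Equiv.Perm.mul_apply, ← map_mul, inv_mul_cancel_right]
  have hne : ∀ (d : E) (u : U), u ≠ 1 → φ d u ≠ 1 := fun d u hu h => hu (Subtype.ext (by
    have h1 := congrArg Subtype.val h
    rw [hφ, Subgroup.coe_one] at h1
    have h2 : (u : G) = (d : G)⁻¹ * (d * u * (d : G)⁻¹) * d := by group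
    rw [h2, h1, Subgroup.coe_one]
    group))
  have hπ : ∀ d ∈ E, ρ d * pr ρ F = pr ρ F * ρ d := fun d hd =>
    pr_comm ρ F (Equiv.refl F) fun f => by rw [← map_mul, ← map_mul, hc d hd f (hFE f.2)]; rfl
  have htr : ∀ (d : E) (u : U), LinearMap.trace ℂ V (ρ (φ d u) * pr ρ F) = LinearMap.trace ℂ V (ρ u * pr ρ F) := by
    intro d u
    rw [hφ, ρ.map_mul, ρ.map_mul, mul_assoc, hπ _ (inv_mem d.2), mul_assoc, LinearMap.trace_mul_comm, mul_assoc, mul_assoc,
      ← ρ.map_mul, inv_mul_cancel, ρ.map_one, mul_one]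
  rw [← Finset.add_sum_erase _ _ (Finset.mem_univ (1 : U)), Subgroup.coe_one, map_one, one_mul, add_sub_cancel_left,
    ← Finset.sum_fiberwise_of_maps_to (t := (Finset.univ.erase (1 : U)).image orb) (g := orb)
      fun u hu => Finset.mem_image_of_mem orb hu]
  have hfib : ∀ s ∈ (Finset.univ.erase (1 : U)).image orb,
      (Finset.univ.erase (1 : U)).filter (fun u => orb u = s) = s := by
    intro s hs
    obtain ⟨u, hu, rfl⟩ := Finset.mem_image.1 hs
    ext v
    rw [Finset.mem_filter]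
    constructor
    · rintro ⟨-, h⟩
      rw [← h]
      exact hself v
    · intro hv
      obtain ⟨f, hf, rfl⟩ := (horb _ _).1 hv
      exact ⟨Finset.mem_erase.2 ⟨hne f u (Finset.mem_erase.1 hu).1, Finset.mem_univ _⟩, horbF f hf u⟩
  rw [Finset.sum_congr rfl fun s hs => by rw [hfib s hs]]
  refine ev_sum hE Φ (F := fun s => ∑ v ∈ s, LinearMap.trace ℂ V (ρ v * pr ρ F)) _ (fun d s hs => ?_) (fun d s _ => ?_)
    (fun s hs => ?_) fun s hs => ?_
  · obtain ⟨u, hu, rfl⟩ := Finset.mem_image.1 hs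
    rw [hmap]
    exact Finset.mem_image_of_mem orb (Finset.mem_erase.2 ⟨hne d u (Finset.mem_erase.1 hu).1, Finset.mem_univ _⟩)
  · simp only [hΦ, Finset.sum_map, Equiv.toEmbedding_apply, htr]
  · obtain ⟨u, -, rfl⟩ := Finset.mem_image.1 hs
    have := Fintype.ofFinite F
    show IsIntegral ℤ (∑ v ∈ orb u, LinearMap.trace ℂ V (ρ v * pr ρ F))
    rw [← map_sum, ← Finset.sum_mul]
    refine isIntegral_trace (isIntegral_mul_proj (isIntegral_sum ρ _ _) (pr_mul_pr ρ F)
      (pr_comm ρ F (Equiv.refl F) fun f => ?_))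
    have h1 := hmap ⟨f, hFE f.2⟩ u
    rw [horbF _ f.2] at h1
    conv_lhs => rw [← h1]
    rw [hΦ, Finset.sum_map, Finset.sum_mul, Finset.mul_sum]
    refine Finset.sum_congr rfl fun v _ => ?_
    rw [Equiv.toEmbedding_apply, hφ, ← map_mul, ← map_mul, inv_mul_cancel_right]
    rfl
  · obtain ⟨u, hu, rfl⟩ := Finset.mem_image.1 hs
    by_contra hcon
    push Not at hcon
    refine (Finset.mem_erase.1 hu).1 (Subtype.ext (hC u u.2 fun d hd => ?_))
    have h1 : d ∈ Subgroup.centralizer ({(u : G)} : Set G) := by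
      refine mem_of_sq hE hc (fun e he => ?_) hd
      have h2 := hself (φ ⟨e, he⟩ u)
      rw [← hmap, hcon, horb] at h2
      obtain ⟨f, hf, h3⟩ := h2
      obtain ⟨x, hx, h4⟩ := hsq f hf
      refine ⟨x, hx, Subgroup.mem_centralizer_singleton_iff.2 ?_⟩
      have h5 := congrArg Subtype.val h3
      rw [hφ, hφ, h4] at h5
      calc (x * x)⁻¹ * e * u = (x * x)⁻¹ * (e * u * e⁻¹) * e := by group
        _ = u * ((x * x)⁻¹ * e) := by rw [h5]; group
    exact Subgroup.mem_centralizer_singleton_iff.1 h1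

/-- **An eigenvector outside of the image of a projection of even rank.** -/
theorem exists_lin {S : Type} [Group S] [Finite S] (hS : IsPGroup 2 S) (σ : Representation ℂ S V)
    (ho : Odd (finrank ℂ V)) {π : End ℂ V} (hπ : π * π = π) (hc : ∀ s, σ s * π = π * σ s)
    (he : Ev (LinearMap.trace ℂ V π)) :
    ∃ (f : S →* ℂˣ) (v : V), v ≠ 0 ∧ π v = 0 ∧ ∀ s, σ s v = ((f s : ℂˣ) : ℂ) • v := by
  have : Fact (Nat.Prime 2) := ⟨Nat.prime_two⟩
  have := Fintype.ofFinite S
  have := Fintype.ofFinite (⊤ : Subgroup S)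
  let τ : Representation ℂ S (LinearMap.ker π) := σ.subrepresentation (LinearMap.ker π) fun s v hv => by
    rw [Submodule.mem_comap, LinearMap.mem_ker, ← End.mul_apply, ← hc, End.mul_apply, LinearMap.mem_ker.1 hv, map_zero]
  have h1 := ((LinearMap.isProj_range_iff_isIdempotentElem π).2 hπ).trace
  have h2 := LinearMap.finrank_range_add_finrank_ker π
  have h3 : ¬ 2 ∣ finrank ℂ (LinearMap.ker π) := by
    intro h3
    rw [h1] at he
    have h4 := he.add (ev_nat h3)
    rw [← Nat.cast_add, h2] at h4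
    exact not_ev_one (Ev.of_odd_mul ho isIntegral_one (by rwa [mul_one]))
  obtain ⟨f, hf⟩ := H670.PSing.exists_linear_constituent hS (Core.isCharacter_of_rep τ) (by simp) h3
  have h4 : ∑ u : (⊤ : Subgroup S), ((((f.comp (⊤ : Subgroup S).subtype) u)⁻¹ : ℂˣ) : ℂ) * τ.character u ≠ 0 := by
    intro h0
    apply hf
    rw [classInner, ← Fintype.sum_equiv Subgroup.topEquiv.toEquiv
      (fun u : (⊤ : Subgroup S) => ((((f.comp (⊤ : Subgroup S).subtype) u)⁻¹ : ℂˣ) : ℂ) * τ.character u) _ fun u => ?_,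
      h0, mul_zero]
    rw [mul_comm, Units.val_inv_eq_inv_val, Complex.inv_eq_conj]
    · rfl
    · exact Complex.norm_eq_one_of_pow_eq_one (Red.hom_pow_card _ u) Nat.card_pos.ne'
  obtain ⟨v, hv, h5⟩ := exists_eig _ h4
  exact ⟨f, v, fun h => hv (Subtype.ext h), v.2, fun s => congrArg Subtype.val (h5 ⟨s, Subgroup.mem_top s⟩)⟩

end Cfsg.Agent.ODD.QB
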