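import Cfsg.Agent.ODD.QB.Par
import Cfsg.Agent.ODD.QB.Aut
import Cfsg.Agent.ODD.PS.Cor
import Cfsg.Agent.ODD.Red.Ext2
import Cfsg.Agent.H491.Sd.Norm

/-!
# ODD, box QB: root group data (helper9)

* `NQ R`: an irreducible character of odd degree which is not `2`-rational lies over a character of `T` whose square is
  not trivial on the `2`-elements; `nq_of_sq`;
* `exists_lin_T`: the linear character of a `2`-group of automorphisms which fixes `T` and `θ`;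
* `uniq`, `exists_diag_all`;
* `qb_of_frame`: **`QB Y` from a frame**.
-/

set_option autoImplicit false
set_option linter.unusedSectionVars false

namespace Cfsg.Agent.ODD.QB

open Cfsg Module CoxeterSystem Cfsg.Agent.ChevalleyStructure.CoxeterGeom Cfsg.Agent.Tits.Roots Cfsg.Agent.Nodes.Reps
  Cfsg.Agent.Nodes.BNOf Cfsg.Agent.Nodes.Bruhat Cfsg.Agent.Nodes.NormalForm Cfsg.Agent.H684.OQ Cfsg.Agent.H381.OQ
  Cfsg.Agent.Characters Cfsg.Agent.ODD.PS Cfsg.Agent.ODD.Lev Cfsg.Agent.KFacts.RgdAut Cfsg.Agent.KFacts.RgdDiag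

variable {I W Y : Type} [Fintype I] [DecidableEq I] [Group W] [Finite W] [Group Y] [Finite Y]
  {M : CoxeterMatrix I} {cs : CoxeterSystem M W} {A : I → I → ℤ} {h : IsCartan M A} {p : ℕ} {T : Subgroup Y}
  {n : I → Y} {X : (I → ℤ) → Subgroup Y}

/-- the squares of the `2`-elements -/
def Sq (hc : ∀ a ∈ T, ∀ b ∈ T, a * b = b * a) : Subgroup Y where
  carrier := {f | ∃ e ∈ T2 hc, f = e * e}
  one_mem' := ⟨1, one_mem _, (one_mul 1).symm⟩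
  mul_mem' := by
    rintro _ _ ⟨a, ha, rfl⟩ ⟨b, hb, rfl⟩
    refine ⟨a * b, mul_mem ha hb, ?_⟩
    rw [mul_assoc a b, ← mul_assoc b, ← hc a ha.1 b hb.1]
    group
  inv_mem' := by
    rintro _ ⟨a, ha, rfl⟩
    exact ⟨a⁻¹, inv_mem ha, mul_inv_rev a a⟩

theorem fix_Sq (hc : ∀ a ∈ T, ∀ b ∈ T, a * b = b * a) {γ : MulAut Y} (hγ : Fix γ T) {f : Y} (hf : f ∈ Sq hc) :
    γ f ∈ Sq hc := by
  obtain ⟨e, ⟨he, k, hk⟩, rfl⟩ := hf
  exact ⟨γ e, ⟨(hγ e).2 he, k, by rw [← map_pow, hk, map_one]⟩, map_mul _ _ _⟩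

theorem fix_two_val {τ : ℂ ≃+* ℂ} (hτ : Red.Two τ) {lam : ↥T →* ℂˣ}
    (hl : ∀ (t : ↥T) (j : ℕ), t ^ 2 ^ j = 1 → lam t ^ 2 = 1) (t : ↥T) : τ (lam t : ℂˣ) = (lam t : ℂˣ) := by
  obtain ⟨a, k, j, hj, h1, h2⟩ := exists_parts t
  have e : t = t ^ a * ((t ^ a)⁻¹ * t) := by group
  rw [e, map_mul, Units.val_mul, map_mul, fix_of_sq (hl _ k h1), hτ j _ hj]
  rw [← Units.val_pow_eq_pow_val, ← map_pow, h2, map_one, Units.val_one]

variable (R : RGD cs h p T n X)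

/-- the characters which are not `2`-rational -/
def NQ : Prop := ∀ θ : Y → ℂ, IsIrrCharacter Y θ → Odd (charDegree θ) → ¬ Red.Rat2 θ →
  ∃ lam : ↥T →* ℂˣ, mB R lam θ ≠ 0 ∧ ∃ (t : ↥T) (j : ℕ), t ^ 2 ^ j = 1 ∧ lam t ^ 2 ≠ 1

theorem nq_of_sq (hM : AH.Main) (hp : p.Prime) (hp2 : p ≠ 2) (hG : GG cs h T X = ⊤)
    (hc : ∀ a ∈ T, ∀ b ∈ T, a * b = b * a) (hnf : H69.OQ.NoFix cs h T X)
    (hsq : ∀ lam : ↥T →* ℂˣ, Odd (Wst R lam).index → (∀ (t : ↥T) (j : ℕ), t ^ 2 ^ j = 1 → lam t ^ 2 = 1) →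
      ∃ (nu : ↥T →* ℂˣ) (g : Y), g ∈ NN cs R.nsys ∧ Cj T nu lam g ∧ ∀ w ∈ Wst R nu, w * w ∈ Rg R nu) : NQ R := by
  intro θ hθ ho hr
  obtain ⟨lam, ⟨m, hm, h1⟩, h2⟩ := exists_lam R hG hc hnf hθ ho
  refine ⟨lam, by rw [h1]; exact Nat.cast_ne_zero.2 hm.pos.ne', ?_⟩
  by_contra h3
  push Not at h3
  obtain ⟨nu, g, hg, h4, h5⟩ := hsq lam h2 h3
  obtain ⟨w, hw⟩ := mem_NN.1 hg
  refine hr fun τ hτ => fix_two R hM hp hp2 hG hc hτ (fix_two_val hτ fun t j ht => ?_) h5 hθ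
    ⟨m, hm, (mB_congr R hG (Core.isIrr_isClassFunction hθ) hg h4).trans h1⟩
  rw [show nu t = _ from h4 t t.2 (conj_T' R hw t.2)]
  refine h3 _ j (Subtype.ext ?_)
  have h6 : (t : Y) ^ 2 ^ j = 1 := congrArg Subtype.val ht
  show (g⁻¹ * t * g) ^ 2 ^ j = 1
  rw [show g⁻¹ * t * g = g⁻¹ * t * g⁻¹⁻¹ by rw [inv_inv], conj_pow, h6, mul_one, mul_inv_cancel]

include R

/-- the trace of the projection is even -/
theorem ev_pr (hG : GG cs h T X = ⊤) (hc : ∀ a ∈ T, ∀ b ∈ T, a * b = b * a) (hnf : H69.OQ.NoFix cs h T X) {d : ℕ}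
    (ρ : Representation ℂ Y (Fin d → ℂ)) (hρ : ρ.IsIrreducible) {lam : ↥T →* ℂˣ} (h0 : mB R lam ρ.character ≠ 0)
    {t : ↥T} {j : ℕ} (ht : t ^ 2 ^ j = 1) (hl : lam t ^ 2 ≠ 1) : Ev (LinearMap.trace ℂ _ (pr ρ (Sq hc))) := by
  classical
  have := Fintype.ofFinite ↥(RGD.Sup X (RGD.Pos cs h))
  have := Fintype.ofFinite ↥(Sq hc)
  let _ : CommGroup ↥T := { (inferInstance : Group ↥T) with mul_comm := fun a b => Subtype.ext (hc a a.2 b b.2) }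
  have hfin : Finite (↥T →* ℂˣ) := by
    obtain ⟨e⟩ := CommGroup.monoidHom_mulEquiv_of_hasEnoughRootsOfUnity ↥T ℂ
    exact Finite.of_equiv _ e.symm.toEquiv
  have : Fintype (↥T →* ℂˣ) := Fintype.ofFinite _
  have hθ : IsIrrCharacter Y ρ.character := ⟨d, ρ, hρ, rfl⟩
  have hFT : Sq hc ≤ T := by
    rintro _ ⟨e, he, rfl⟩
    exact mul_mem he.1 he.1
  have h1 := ev_trace ρ (U := RGD.Sup X (RGD.Pos cs h)) (F := Sq hc) (isPGroup_T2 hc)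
    (fun a ha b hb => hc a ha.1 b hb.1) (fun f hf => hf)
    (fun e he v hv => (Subgroup.mem_normalizer_iff.1 (R.T_le_normalizer_U he.1) v).1 hv)
    fun v hv hv' => fix_U R hnf (hc := hc) hv (Subgroup.mem_centralizer_iff.2 hv')
  have h2 : ∀ μ : ↥T →* ℂˣ, (∑ f : Sq hc, ((μ ⟨f, hFT f.2⟩ : ℂˣ) : ℂ)) * mB R μ ρ.character = 0 := fun μ => by
    by_cases h3 : mB R μ ρ.character = 0
    · rw [h3, mul_zero]
    obtain ⟨g, hg, h4⟩ := mB_conj R hG hθ h0 h3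
    obtain ⟨w, hw⟩ := mem_NN.1 hg
    have h6 : (t : Y) ^ 2 ^ j = 1 := congrArg Subtype.val ht
    have h5 : g⁻¹ * t * g ∈ T2 hc := ⟨conj_T' R hw t.2, j, by
      rw [show g⁻¹ * t * g = g⁻¹ * t * g⁻¹⁻¹ by rw [inv_inv], conj_pow, h6, mul_one, mul_inv_cancel]⟩
    refine mul_eq_zero_of_left (sum_hom_units_eq_zero ((Units.coeHom ℂ).comp (μ.comp (Subgroup.inclusion hFT)))
      fun h7 => hl ?_) _
    have h8 : μ (⟨_, h5.1⟩ * ⟨_, h5.1⟩) = 1 := Units.ext (DFunLike.congr_fun h7 ⟨_, _, h5, rfl⟩ :)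
    rw [show lam t = _ from h4 t t.2 h5.1, pow_two, ← map_mul, h8]
  have h3 : ∑ v : RGD.Sup X (RGD.Pos cs h), LinearMap.trace ℂ _ (ρ v * pr ρ (Sq hc)) = 0 := by
    have h4 : ∀ v : RGD.Sup X (RGD.Pos cs h), LinearMap.trace ℂ _ (ρ v * pr ρ (Sq hc)) =
        (Nat.card (Sq hc) : ℂ)⁻¹ * ∑ f : Sq hc, ρ.character (f * v) := fun v => by
      rw [pr_eq, mul_smul_comm, map_smul, Finset.mul_sum, map_sum, smul_eq_mul]
      refine congrArg _ (Finset.sum_congr rfl fun f _ => ?_)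
      rw [LinearMap.trace_mul_comm, ← map_mul]
      rfl
    rw [Finset.sum_congr rfl fun v _ => h4 v, ← Finset.mul_sum, Finset.sum_comm,
      Finset.sum_congr rfl fun (f : Sq hc) _ => sum_U_eq R hc ρ.character (hFT f.2), ← Finset.mul_sum, Finset.sum_comm,
      Finset.sum_eq_zero fun μ _ => by rw [← Finset.sum_mul, h2], mul_zero, mul_zero]
  rw [h3, zero_sub] at h1
  exact neg_neg (LinearMap.trace ℂ _ (pr ρ (Sq hc))) ▸ h1.neg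

/-- **The linear character of a `2`-group of automorphisms which fixes `T`.** -/
theorem exists_lin_T (hG : GG cs h T X = ⊤) (hY : commutator Y = ⊤) (hc : ∀ a ∈ T, ∀ b ∈ T, a * b = b * a)
    (hnf : H69.OQ.NoFix cs h T X) {θ : Y → ℂ} (hθ : IsIrrCharacter Y θ) (ho : Odd (charDegree θ)) {lam : ↥T →* ℂˣ}
    (h0 : mB R lam θ ≠ 0) {t : ↥T} {j : ℕ} (ht : t ^ 2 ^ j = 1) (hl : lam t ^ 2 ≠ 1) {S : Subgroup (MulAut Y)}
    (hinv : ∀ a ∈ S, ∀ g, θ (a g) = θ g) (hS : IsPGroup 2 S) (hT : ∀ γ ∈ S, Fix γ T)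
    (hE : ∀ t ∈ T2 hc, MulAut.conj t ∈ S) :
    ∃ (f : S →* ℂˣ) (t : Y) (k : ℕ) (hm : MulAut.conj t ∈ S), t ^ 2 ^ k = 1 ∧ f ⟨_, hm⟩ ^ 2 ≠ 1 := by
  have := finite_aut (Y := Y)
  obtain ⟨d, ρ, hρ, rfl⟩ := hθ
  rw [Red.charDegree_rep] at ho
  obtain ⟨σ, h1, -, h2⟩ := Red.exists_act hY S hS ρ hρ ho hinv
  obtain ⟨f, v, hv, h3, h4⟩ := exists_lin hS σ ho (pr_mul_pr ρ (Sq hc)) (fun s => pr_comm ρ _
    ⟨fun x => ⟨_, fix_Sq hc (hT s s.2) x.2⟩, fun x => ⟨_, fix_Sq hc (hT s s.2).inv x.2⟩,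
      fun x => Subtype.ext (MulAut.inv_apply_self _ _ _), fun x => Subtype.ext (MulAut.apply_inv_self _ _ _)⟩
    fun x => h1 s x) (ev_pr R hG hc hnf ρ hρ h0 ht hl)
  by_contra h5
  push Not at h5
  refine hv (h3 ▸ (pr_fix ρ ?_).symm)
  rintro _ ⟨e, he, rfl⟩
  obtain ⟨k, hk⟩ := he.2
  rw [map_mul, ← h2 e (hE e he) k hk, End.mul_apply, h4, map_smul, h4, smul_smul, ← Units.val_mul, ← pow_two,
    h5 f e k (hE e he) hk, Units.val_one, one_smul]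

theorem noFix_of (hnf : H69.OQ.NoFix cs h T X) : H491.Sd.NoFix cs h T X :=
  fun x hx u hu h1 => hnf x hx u hu fun t ht _ => h1 t ht

theorem uniq (hG : GG cs h T X = ⊤) (hnf : H69.OQ.NoFix cs h T X) : ∀ u ∈ RGD.Sup X (RGD.Pos cs h),
    ∀ v ∈ RGD.Sup X (RGD.Pos cs h), ∀ k ∈ Subgroup.normalizer (T : Set Y),
    u * k * v ∈ Subgroup.normalizer (T : Set Y) → u * k * v = k := by
  intro u hu v hv k hk hk'
  obtain ⟨w, hw⟩ := H491.Sd.exists_rp_of_norm R hG (noFix_of R hnf) hk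
  obtain ⟨w', hw'⟩ := H491.Sd.exists_rp_of_norm R hG (noFix_of R hnf) hk'
  obtain rfl : w = w' := Cell.unique R ⟨u, RGD.U_le_B hu, k, hw, v, RGD.U_le_B hv, rfl⟩ (cell_of_rp hw')
  obtain ⟨b, hb, c, hc, rfl⟩ := exists_PW_NW R w hv
  have h1 : k * b * k⁻¹ ∈ RGD.Sup X (RGD.Pos cs h) :=
    conj_mem_Sup R hw (S' := RGD.Pos cs h) (fun x hx => hx.1) (fun x hx => ⟨hx.1.act _, hx.2.2⟩) hb
  exact (normal_form_unique R (one_mem _) (mul_mem hu h1) hw' hw (one_mem _) hc (by group)).2.1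

/-- every automorphism is diagonal up to an inner one -/
theorem exists_diag_all (hp : p.Prime) (hG : GG cs h T X = ⊤) (α : MulAut Y) :
    ∃ (g : Y) (σ : Equiv.Perm I), Diag T X (MulAut.conj g * α) σ := by
  have : Fact p.Prime := ⟨hp⟩
  obtain ⟨g, hg⟩ : ∃ g : Y, (RGD.Sup X (RGD.Pos cs h)).map α.toMonoidHom = cj g (RGD.Sup X (RGD.Pos cs h)) := by
    have hU : IsPGroup p (RGD.Sup X (RGD.Pos cs h)) := R.isPGroup_Upos
    obtain ⟨S, hS⟩ := hU.exists_le_sylow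
    have hS' : (S : Subgroup Y) = RGD.Sup X (RGD.Pos cs h) :=
      eq_U_of_isPGroup R S.isPGroup' hS (by rw [hG]; exact le_top)
    obtain ⟨g, hg⟩ := MulAction.exists_smul_eq Y S (S.mapSurjective (f := α.toMonoidHom) α.surjective)
    refine ⟨g, ?_⟩
    rw [← hS']
    exact (congrArg Sylow.toSubgroup hg).symm
  have h1 : Fix (MulAut.conj g⁻¹ * α) (RGD.Sup X (RGD.Pos cs h)) := by
    rw [fix_iff]
    have h2 : (MulAut.conj g⁻¹ * α).toMonoidHom = (MulAut.conj g⁻¹).toMonoidHom.comp α.toMonoidHom := rfl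
    rw [h2, ← Subgroup.map_map, hg]
    exact cj_inv_cj g _
  obtain ⟨u, -, hU, -, hUN, -, -⟩ := exists_frame R hG h1
  obtain ⟨σ, D⟩ := exists_diag R hG hU hUN
  exact ⟨u * g⁻¹, σ, by rwa [map_mul, mul_assoc]⟩

/-- **`QB` from a frame.** -/
theorem qb_of_frame (hp : p.Prime) (hG : GG cs h T X = ⊤) (hY : commutator Y = ⊤) (hnf : H69.OQ.NoFix cs h T X)
    (hq : NQ R) {ι : Type} [Fintype ι] {Z : ι × Bool → Subgroup Y} {m : ι → Y}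
    (F : Fr (RGD.Sup X (RGD.Pos cs h)) T Z m)
    (hD : ∀ γ σ, Diag T X γ σ → ∃ g : Y, MulAut.conj g * γ ∈ NH T Z)
    (hodd : Odd ((⨆ a, KK Z a) ⊔ (NH T Z).comap MulAut.conj).index) : QB Y := by
  intro Q B c θ hθ ho hinv hr
  obtain ⟨lam, h0, t, j, ht, hl⟩ := hq θ hθ ho hr
  have h1 : ∀ γ ∈ Inn Y ⊔ B, ∀ g, θ (γ g) = θ g := fun γ hγ g => by
    obtain ⟨_, ⟨x, rfl⟩, b, hb, rfl⟩ := H55.Sd.exists_mul_of_sup (fun _ _ _ hk => conj_mem_Inn hk) hγ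
    rw [MulAut.mul_apply, MulAut.conj_apply, Core.isIrr_isClassFunction hθ, hinv b hb]
  obtain ⟨H, hH, h2, f, s, k, hm, hs, hf⟩ := F.exists_odd (fun γ => by
    obtain ⟨g, σ, D⟩ := exists_diag_all R hp hG γ
    obtain ⟨g', h2⟩ := hD _ σ D
    exact ⟨g' * g, by rwa [map_mul, mul_assoc]⟩) hodd (le_sup_left : Inn Y ≤ Inn Y ⊔ B)
    fun S h2 h3 h4 h5 => exists_lin_T R hG hY F.comm hnf hθ ho h0 ht hl (fun a ha => h1 a (h2 ha)) h3 h4 h5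
  exact transfer c hH h2 f hs hm hf

end Cfsg.Agent.ODD.QB
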